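import Groth.Agent.L04.NodeUFD.Main
import Groth.Agent.L01.CompletionReg
import Groth.Agent.S19890
import Groth.Prelude.Def_DualGr
import Mathlib.RingTheory.AdicCompletion.LocalRing

/-!
Factoriality of rings whose completion is a node of prime thickness over a regular base.
-/

set_option autoImplicit false
set_option linter.style.haveILetI false
universe u

open IsLocalRing

noncomputable section

namespace Groth.L04.NodeUFD

theorem isIntegrallyClosed_of_faithfullyFlat_aux (A B KA KB : Type u) [CommRing A] [CommRing B] [IsDomain A]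
    [IsDomain B] [Algebra A B] [Module.FaithfullyFlat A B] [IsIntegrallyClosed B] [Field KA] [Algebra A KA]
    [IsFractionRing A KA] [Field KB] [Algebra B KB] [IsFractionRing B KB] : IsIntegrallyClosed A := by
  have hinj : Function.Injective (algebraMap A B) := FaithfulSMul.algebraMap_injective A B
  have hKA := IsFractionRing.injective A KA
  have hKB := IsFractionRing.injective B KB
  have hg : Function.Injective ((algebraMap B KB).comp (algebraMap A B)) := hKB.comp hinj
  obtain ⟨ι, hι⟩ : ∃ ι : KA →+* KB, ∀ a, ι (algebraMap A KA a) = algebraMap B KB (algebraMap A B a) :=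
    ⟨IsFractionRing.lift hg, fun a => IsFractionRing.lift_algebraMap hg a⟩
  refine (isIntegrallyClosed_iff KA).2 fun {z} hz => ?_
  obtain ⟨a, b, hb, hz'⟩ := IsFractionRing.div_surjective (A := A) z
  subst hz'
  have hb0 : b ≠ 0 := nonZeroDivisors.ne_zero hb
  have hint : IsIntegral B (ι (algebraMap A KA a / algebraMap A KA b)) := by
    obtain ⟨p, hp, hp0⟩ := hz
    refine ⟨p.map (algebraMap A B), hp.map _, ?_⟩
    rw [Polynomial.eval₂_map, show (algebraMap B KB).comp (algebraMap A B) = ι.comp (algebraMap A KA) from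
      RingHom.ext fun c => (hι c).symm, ← Polynomial.hom_eval₂, hp0, map_zero]
  obtain ⟨y, hy⟩ := (isIntegrallyClosed_iff KB).1 ‹_› hint
  have hbK : algebraMap B KB (algebraMap A B b) ≠ 0 :=
    (map_ne_zero_iff _ hKB).2 ((map_ne_zero_iff _ hinj).2 hb0)
  rw [map_div₀, hι, hι, eq_div_iff hbK, ← map_mul] at hy
  have hdvd : a ∈ Ideal.span {b} := by
    rw [← Ideal.comap_map_eq_self_of_faithfullyFlat (B := B) (Ideal.span {b}), Ideal.mem_comap, Ideal.map_span,
      Set.image_singleton]
    exact Ideal.mem_span_singleton.2 ⟨y, by rw [← hKB hy, mul_comm]⟩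
  obtain ⟨c, rfl⟩ := Ideal.mem_span_singleton.1 hdvd
  exact ⟨c, by rw [map_mul, mul_div_cancel_left₀ _ ((map_ne_zero_iff _ hKA).2 hb0)]⟩

/-- Normality descends along faithfully flat maps into normal domains. -/
theorem isIntegrallyClosed_of_faithfullyFlat (A B : Type u) [CommRing A] [CommRing B] [IsDomain A] [IsDomain B]
    [Algebra A B] [Module.FaithfullyFlat A B] [IsIntegrallyClosed B] : IsIntegrallyClosed A :=
  isIntegrallyClosed_of_faithfullyFlat_aux A B (FractionRing A) (FractionRing B)

theorem ufm_of_isThickNode (R A : Type u) [CommRing R] [IsRegularLocalRing R] [CommRing A] [IsLocalRing A]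
    [IsNoetherianRing A] (φ : R →+* A) (Δ : R) (hnode : DualGr.IsThickNode φ Δ)
    (hprime : Prime (algebraMap R (Curv2.cpl R) Δ)) : IsDomain A ∧ UniqueFactorizationMonoid A := by
  haveI : IsRegularLocalRing (Curv2.cpl R) := (Groth.L01.CompletionReg.isRegularLocalRing_iff_completion R).1 ‹_›
  haveI : IsAdicComplete (maximalIdeal (Curv2.cpl R)) (Curv2.cpl R) :=
    AdicCompletion.isAdicComplete_of_fg (maximalIdeal R).fg_of_isNoetherianRing
  obtain ⟨hdom, hufd⟩ := ufm_nodeAlg (R := Curv2.cpl R) ((mem_maximalIdeal _).2 hprime.not_isUnit) hprime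
  obtain ⟨e, -⟩ := hnode
  haveI : IsDomain (Curv2.cpl A) := MulEquiv.isDomain (ArLef.NodeAlg (Curv2.cpl R) (algebraMap R (Curv2.cpl R) Δ)) e.toMulEquiv
  haveI : UniqueFactorizationMonoid (Curv2.cpl A) := e.symm.toMulEquiv.uniqueFactorizationMonoid hufd
  haveI : IsNoetherianRing (Curv2.cpl A) := Groth.L01.AnalUnram.isNoetherianRing_completion A
  haveI : Module.Flat A (Curv2.cpl A) := inferInstance
  haveI := Module.FaithfullyFlat.of_flat_of_isLocalHom (A := A) (B := Curv2.cpl A)
  haveI : IsDomain A := (FaithfulSMul.algebraMap_injective A (Curv2.cpl A)).isDomain (algebraMap A (Curv2.cpl A))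
  haveI := isIntegrallyClosed_of_faithfullyFlat A (Curv2.cpl A)
  exact ⟨inferInstance, Groth.Agent.S19890.result A (Curv2.cpl A)⟩

end Groth.L04.NodeUFD
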