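import Groth.Agent.L14.Node
import Groth.Agent.L01.NodeUnits
import Groth.Agent.L06.CTensPS
import Groth.Agent.Lead.ChevalleyModule
import Mathlib.RingTheory.AdicCompletion.Functoriality
import Mathlib.RingTheory.LocalRing.Quotient

/-!
Division in `R⟦u, v⟧/(uv - r)` by an element which is nonzero on both branches of the closed fibre.
-/

set_option autoImplicit false
set_option linter.style.haveILetI false
set_option linter.unusedSectionVars false
universe u

open IsLocalRing MvPowerSeries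

noncomputable section

namespace Groth.L04.NodeUFD

open Groth.L14.Node (x cst br q lift other_ne eq_single_of_zero)
open Groth.L01.NodeUnits (Psi rel ex canon cc)

variable {R : Type u} [CommRing R] (r : R)

local notation "A" => ArLef.NodeAlg R r

/-- The exponent `(j, l)` in the orientation `i`. -/
def exi (i : Fin 2) (j l : ℕ) : Fin 2 →₀ ℕ := Finsupp.single i j + Finsupp.single (1 - i) l

theorem exi_zero (i : Fin 2) (l : ℕ) : exi i 0 l = Finsupp.single (1 - i) l := by simp [exi]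

theorem exi_swap (i : Fin 2) (j l : ℕ) : exi (1 - i) j l = exi i l j := by
  rw [exi, exi, sub_sub_cancel, add_comm]

/-- Interchanging the variables. -/
def sw (i : Fin 2) : MvPowerSeries (Fin 2) R →+* MvPowerSeries (Fin 2) R :=
  (MvPowerSeries.renameEquiv R (Equiv.swap 0 i)).toAlgHom.toRingHom

theorem coeff_sw (i : Fin 2) (F : MvPowerSeries (Fin 2) R) (j l : ℕ) :
    coeff (ex j l) (sw i F) = coeff (exi i j l) F := by
  show coeff (ex j l) (rename (Equiv.swap 0 i) F) = _
  have he : Finsupp.embDomain (Equiv.swap 0 i).toEmbedding (exi i j l) = ex j l := by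
    rw [exi, ex, Finsupp.embDomain_add, Finsupp.embDomain_single, Finsupp.embDomain_single]
    fin_cases i <;> simp
  rw [← he]
  exact coeff_embDomain_rename (e := (Equiv.swap 0 i).toEmbedding) _ _

theorem sw_X (i j : Fin 2) : sw i (X j : MvPowerSeries (Fin 2) R) = X (Equiv.swap 0 i j) := by
  simp [sw]

theorem sw_C (i : Fin 2) (c : R) : sw i (C c : MvPowerSeries (Fin 2) R) = C c := by
  simp [sw]

variable {S : Type u} [CommRing S] (ρ : R →+* S) (k : ℕ) (hk : ρ r ^ k = 0)

/-- The expansion in the orientation `i`. -/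
def Ps (i : Fin 2) : A →+* LaurentSeries S :=
  Ideal.Quotient.lift _ ((Psi ρ r k hk).comp (sw i)) (by
    intro z hz
    obtain ⟨c, rfl⟩ := Ideal.mem_span_singleton.1 hz
    have h : sw i (X 0 * X 1 - C r : MvPowerSeries (Fin 2) R) = rel r := by
      rw [map_sub, map_mul, sw_X, sw_X, sw_C, rel]
      fin_cases i <;> simp [mul_comm]
    rw [RingHom.comp_apply, map_mul (sw i), h, map_mul, Groth.L01.NodeUnits.Psi_rel, zero_mul])

theorem Ps_mk (i : Fin 2) (F : MvPowerSeries (Fin 2) R) :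
    Ps r ρ k hk i (Ideal.Quotient.mk _ F) = Psi ρ r k hk (sw i F) := rfl

theorem coeff_Ps (i : Fin 2) (F : MvPowerSeries (Fin 2) R) (n : ℤ) :
    (Ps r ρ k hk i (Ideal.Quotient.mk _ F)).coeff n =
      ∑ j ∈ Finset.range k, if 0 ≤ n + j then ρ r ^ j * ρ (coeff (exi i j (n + j).toNat) F) else 0 := by
  rw [Ps_mk, Groth.L01.NodeUnits.coeff_Psi]
  simp only [coeff_sw]

theorem Ps_x_self (i : Fin 2) : Ps r ρ k hk i (x r i) = HahnSeries.single (-1 : ℤ) (ρ r) := by
  rw [Ps_mk, sw_X, Equiv.swap_apply_right, Groth.L01.NodeUnits.Psi_X0]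
  rfl

theorem Ps_x_other (i : Fin 2) : Ps r ρ k hk i (x r (1 - i)) = HahnSeries.single (1 : ℤ) 1 := by
  rw [Ps_mk, sw_X, show Equiv.swap 0 i (1 - i) = 1 by fin_cases i <;> simp, Groth.L01.NodeUnits.Psi_X1]

theorem coeff_Ps_cst_mul (i : Fin 2) (c : R) (y : A) (n : ℤ) :
    (Ps r ρ k hk i (cst r c * y)).coeff n = ρ c * (Ps r ρ k hk i y).coeff n := by
  obtain ⟨F, rfl⟩ := Ideal.Quotient.mk_surjective y
  rw [Groth.L14.Node.cst_eq, ← map_mul, Ps_mk, Ps_mk, map_mul, sw_C, Groth.L01.NodeUnits.coeff_Psi_C_mul]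

theorem dvd_coeff_Ps_of_neg (i : Fin 2) (y : A) (n : ℤ) (hn : n < 0) :
    ρ r ∣ (Ps r ρ k hk i y).coeff n := by
  obtain ⟨F, rfl⟩ := Ideal.Quotient.mk_surjective y
  rw [coeff_Ps]
  refine Finset.dvd_sum fun j _ => ?_
  split_ifs with h
  · exact Dvd.dvd.mul_right (dvd_pow_self _ (by omega)) _
  · exact dvd_zero _

theorem coeff_Ps_zero (i : Fin 2) (y : A) :
    (Ps r ρ k hk i y).coeff 0 = (Ps r ρ k hk (1 - i) y).coeff 0 := by
  obtain ⟨F, rfl⟩ := Ideal.Quotient.mk_surjective y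
  rw [coeff_Ps, coeff_Ps]
  refine Finset.sum_congr rfl fun j _ => ?_
  rw [zero_add, Int.toNat_natCast, exi_swap]

variable [IsLocalRing R] (hr : r ∈ maximalIdeal R)

/-- The restriction to a branch of the closed fibre. -/
def φ (i : Fin 2) : A →+* PowerSeries (R ⧸ maximalIdeal R) :=
  (PowerSeries.map (Ideal.Quotient.factor ((Ideal.span_singleton_le_iff_mem _).2 hr))).comp (br r i)

theorem coeff_φ_mk (i : Fin 2) (F : MvPowerSeries (Fin 2) R) (n : ℕ) :
    PowerSeries.coeff n (φ r hr i (Ideal.Quotient.mk _ F)) =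
      Ideal.Quotient.mk (maximalIdeal R) (coeff (Finsupp.single (1 - i) n) F) := by
  simp [φ, Groth.L14.Node.br_mk, Groth.L14.Node.coeff_q]

theorem φ_x_self (i : Fin 2) : φ r hr i (x r i) = 0 := by
  simp [φ, Groth.L14.Node.br_x_self]

theorem φ_x_other (i : Fin 2) : φ r hr i (x r (1 - i)) = PowerSeries.X := by
  simp [φ, Groth.L14.Node.br_x_other, PowerSeries.map_X]

theorem φ_x_other' (i : Fin 2) : φ r hr (1 - i) (x r i) = PowerSeries.X := by
  conv_lhs => arg 2; rw [← sub_sub_cancel 1 i]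
  exact φ_x_other r hr (1 - i)

theorem φ_cst (i : Fin 2) (c : R) : φ r hr i (cst r c) = PowerSeries.C (Ideal.Quotient.mk _ c) := by
  simp [φ, Groth.L14.Node.br_cst]

theorem φ_surjective (i : Fin 2) : Function.Surjective (φ r hr i) :=
  (PowerSeries.map_surjective (Ideal.Quotient.factor ((Ideal.span_singleton_le_iff_mem _).2 hr))
    (Ideal.Quotient.factor_surjective _)).comp (Groth.L14.Node.br_surjective r i)

theorem constantCoeff_φ (i : Fin 2) (y : A) :
    PowerSeries.coeff 0 (φ r hr i y) = PowerSeries.coeff 0 (φ r hr (1 - i) y) := by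
  obtain ⟨F, rfl⟩ := Ideal.Quotient.mk_surjective y
  rw [coeff_φ_mk, coeff_φ_mk, Finsupp.single_zero, Finsupp.single_zero]

/-- The primes of the branches of the closed fibre. -/
def qd (i : Fin 2) : Ideal A := RingHom.ker (φ r hr i)

instance isPrime_qd (i : Fin 2) : (qd r hr i).IsPrime :=
  haveI : IsDomain (R ⧸ maximalIdeal R) := Ideal.Quotient.isDomain _
  RingHom.ker_isPrime _

include hr in
theorem mem_map_of_coeff {I : Ideal R} (hI : I.FG) (F : MvPowerSeries (Fin 2) R) (h : ∀ d, coeff d F ∈ I) :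
    (Ideal.Quotient.mk _ F : A) ∈ I.map (algebraMap R A) := by
  obtain ⟨s, rfl⟩ := hI
  have h' : ∀ d, ∃ c : R → R, ∑ g ∈ s, c g * g = coeff d F := fun d => by
    obtain ⟨c, -, hc⟩ := Submodule.mem_span_finset.1 (h d)
    exact ⟨c, hc⟩
  choose c hc using h'
  let M : R → MvPowerSeries (Fin 2) R := fun g d => c d g
  have : F = ∑ g ∈ s, C g * M g := by
    ext d
    rw [map_sum, ← hc d]
    exact Finset.sum_congr rfl fun g _ => by rw [coeff_C_mul]; exact mul_comm _ _
  rw [this, map_sum]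
  refine Ideal.sum_mem _ fun g hg => ?_
  rw [map_mul, ← Groth.L14.Node.cst_eq]
  exact Ideal.mul_mem_right _ _ (Ideal.mem_map_of_mem _ (Ideal.subset_span hg))

variable [IsNoetherianRing R]

theorem ker_φ_le (i : Fin 2) (y : A) (h : φ r hr i y = 0) :
    y ∈ (maximalIdeal R).map (algebraMap R A) ⊔ Ideal.span {x r i} := by
  obtain ⟨F, rfl⟩ := Ideal.Quotient.mk_surjective y
  have h0 : ∀ n, coeff (Finsupp.single (1 - i) n) F ∈ maximalIdeal R := fun n => by
    rw [← Ideal.Quotient.eq_zero_iff_mem, ← coeff_φ_mk r hr, h, map_zero]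
  let L : MvPowerSeries (Fin 2) R := lift i fun n => coeff (Finsupp.single (1 - i) n) F
  obtain ⟨G, hG⟩ := Groth.L14.Node.X_dvd_of_q_eq_zero (i := i) (f := F - L) (by
    rw [map_sub, Groth.L14.Node.q_lift, sub_eq_zero]
    ext n
    simp [Groth.L14.Node.coeff_q])
  rw [show F = L + X i * G by rw [← hG]; ring, map_add]
  refine Submodule.add_mem_sup (mem_map_of_coeff r hr (IsNoetherian.noetherian _) L fun d => ?_) ?_
  · show (if d i = 0 then coeff (Finsupp.single (1 - i) (d (1 - i))) F else 0) ∈ _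
    split_ifs
    · exact h0 _
    · exact zero_mem _
  · rw [map_mul]
    exact Ideal.mul_mem_right _ _ (Ideal.subset_span rfl)

theorem mem_map_maximalIdeal_of_φ (y : A) (h : ∀ i, φ r hr i y = 0) :
    y ∈ (maximalIdeal R).map (algebraMap R A) := by
  have hm : ∀ i z, z ∈ (maximalIdeal R).map (algebraMap R A) → φ r hr i z = 0 := fun i z hz => by
    refine (Ideal.map_le_iff_le_comap (K := RingHom.ker (φ r hr i))).2 (fun c hc => ?_) hz
    show φ r hr i (cst r c) = 0
    rw [φ_cst, Ideal.Quotient.eq_zero_iff_mem.2 hc, map_zero]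
  obtain ⟨a, ha, b, hb, rfl⟩ := Submodule.mem_sup.1 (ker_φ_le r hr 0 y (h 0))
  obtain ⟨g, rfl⟩ := Ideal.mem_span_singleton.1 hb
  have h1 := h 1
  rw [map_add, hm 1 a ha, zero_add, map_mul, show φ r hr 1 (x r 0) = PowerSeries.X from φ_x_other' r hr 0,
    mul_eq_zero] at h1
  haveI : Nontrivial (R ⧸ maximalIdeal R) := Ideal.Quotient.nontrivial_iff.2 (maximalIdeal.isMaximal R).ne_top
  obtain ⟨a', ha', b', hb', rfl⟩ := Submodule.mem_sup.1 (ker_φ_le r hr 1 g (h1.resolve_left PowerSeries.X_ne_zero))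
  obtain ⟨g', rfl⟩ := Ideal.mem_span_singleton.1 hb'
  rw [mul_add, ← mul_assoc, show x r 0 * x r 1 = cst r r from Groth.L14.Node.x_mul_x r 0]
  exact add_mem ha (add_mem (Ideal.mul_mem_left _ _ ha') (Ideal.mul_mem_right _ _ (Ideal.mem_map_of_mem _ hr)))

section Trunc

variable [IsDomain R] [IsPrecomplete (maximalIdeal R) R]

include hr in
theorem mem_map_pow_of_Ps (K : ℕ) (hK : Ideal.Quotient.mk (maximalIdeal R ^ K) r ^ K = 0) (y : A)
    (h : ∀ i (n : ℕ), (Ps r (Ideal.Quotient.mk (maximalIdeal R ^ K)) K hK i y).coeff n = 0) :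
    y ∈ (maximalIdeal R ^ K).map (algebraMap R A) := by
  obtain ⟨F, rfl⟩ := Ideal.Quotient.mk_surjective y
  obtain ⟨a, b, hab0, hab⟩ := Groth.L01.NodeUnits.exists_canon hr F
  rw [show (Ideal.Quotient.mk _ F : A) = Ideal.Quotient.mk _ (canon a b) from Ideal.Quotient.eq.2 hab] at h ⊢
  have ha : ∀ n, a n ∈ maximalIdeal R ^ K := fun n => by
    have hn := h 0 n
    rw [Ps_mk, show sw 0 (canon a b) = canon a b by
      refine MvPowerSeries.ext fun d => ?_
      rw [← Groth.L01.NodeUnits.ex_eta d, coeff_sw]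
      rfl, Groth.L01.NodeUnits.coeff_Psi_canon, Groth.L01.NodeUnits.cc_natCast] at hn
    exact Ideal.Quotient.eq_zero_iff_mem.1 hn
  have hb : ∀ n, b n ∈ maximalIdeal R ^ K := fun n => by
    have hn := h 1 n
    rw [Ps_mk, show sw 1 (canon a b) = canon b a by
      refine MvPowerSeries.ext fun d => ?_
      rw [← Groth.L01.NodeUnits.ex_eta d, coeff_sw, show exi 1 (d 0) (d 1) = ex (d 1) (d 0) from exi_swap 0 _ _,
        Groth.L01.NodeUnits.coeff_canon, Groth.L01.NodeUnits.coeff_canon]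
      split_ifs with h1 h2
      · rw [h1, h2]; exact hab0
      all_goals rfl, Groth.L01.NodeUnits.coeff_Psi_canon, Groth.L01.NodeUnits.cc_natCast] at hn
    exact Ideal.Quotient.eq_zero_iff_mem.1 hn
  refine mem_map_of_coeff r hr (IsNoetherian.noetherian _) _ fun d => ?_
  show (if d 0 = 0 then a (d 1) else if d 1 = 0 then b (d 0) else 0) ∈ _
  split_ifs
  · exact ha _
  · exact hb _
  · exact zero_mem _

end Trunc

/-- The monomials `1, v, …, v^(a-1), u, …, u^b`. -/
def basisFun (a b : ℕ) : Fin a ⊕ Fin b → A := Sum.elim (fun j => x r 1 ^ (j : ℕ)) (fun j => x r 0 ^ ((j : ℕ) + 1))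

/-- The map `R^(a+b) → A/(f)`. -/
def basisMap (f : A) (a b : ℕ) : (Fin a ⊕ Fin b → R) →ₗ[R] A ⧸ Ideal.span {f} :=
  Fintype.linearCombination R fun l => Ideal.Quotient.mk (Ideal.span {f}) (basisFun r a b l)

theorem basisMap_apply (f : A) (a b : ℕ) (c : Fin a ⊕ Fin b → R) :
    basisMap r f a b c = Ideal.Quotient.mk (Ideal.span {f}) (∑ l, cst r (c l) * basisFun r a b l) := by
  rw [basisMap, Fintype.linearCombination_apply, map_sum]
  exact Finset.sum_congr rfl fun l _ =>
    congrArg (Ideal.Quotient.mk (Ideal.span {f})) (Algebra.smul_def (c l) (basisFun r a b l))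

/-- `f` has order `a` on the branch `u = 0` and `b` on `v = 0`. -/
structure HasOrders (f : A) (a b : ℕ) : Prop where
  pos : 0 < a
  low₀ : ∀ n < a, PowerSeries.coeff n (φ r hr 0 f) = 0
  top₀ : PowerSeries.coeff a (φ r hr 0 f) ≠ 0
  low₁ : ∀ n < b, PowerSeries.coeff n (φ r hr 1 f) = 0
  top₁ : PowerSeries.coeff b (φ r hr 1 f) ≠ 0

variable {r hr}

theorem exists_mul_eq_of_low {k' : Type u} [CommRing k'] [IsDomain k'] (hk' : ∀ z : k', z ≠ 0 → IsUnit z)
    {F P : PowerSeries k'} {a : ℕ} (hlow : ∀ n < a, PowerSeries.coeff n F = 0)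
    (htop : PowerSeries.coeff a F ≠ 0) {e : ℕ} (hP : ∀ n < a + e, PowerSeries.coeff n P = 0) :
    ∃ G, P = F * (PowerSeries.X ^ e * G) := by
  obtain ⟨U, rfl⟩ := PowerSeries.X_pow_dvd_iff.2 hlow
  obtain ⟨H, rfl⟩ := PowerSeries.X_pow_dvd_iff.2 hP
  rw [PowerSeries.coeff_X_pow_mul', if_pos le_rfl, Nat.sub_self, PowerSeries.coeff_zero_eq_constantCoeff] at htop
  obtain ⟨V, hV⟩ := (PowerSeries.isUnit_iff_constantCoeff.2 (hk' _ htop)).exists_right_inv
  refine ⟨V * H, ?_⟩
  rw [pow_add, show PowerSeries.X ^ a * U * (PowerSeries.X ^ e * (V * H)) =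
    PowerSeries.X ^ a * PowerSeries.X ^ e * (U * V) * H by ring, hV, mul_one]

theorem exists_low_poly {f : A} {a b : ℕ} (h : HasOrders r hr f a b) (y : A) :
    ∃ (c : Fin a ⊕ Fin b → R) (g : A),
      y - (∑ l, cst r (c l) * basisFun r a b l) - f * g ∈ (maximalIdeal R).map (algebraMap R A) := by
  classical
  haveI : IsDomain (R ⧸ maximalIdeal R) := Ideal.Quotient.isDomain _
  have hunit : ∀ z : R ⧸ maximalIdeal R, z ≠ 0 → IsUnit z := fun z hz => by
    letI := Ideal.Quotient.field (maximalIdeal R)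
    exact Ne.isUnit hz
  have e0 : ∀ c : R, φ r hr 0 (cst r c) = PowerSeries.C (Ideal.Quotient.mk _ c) := φ_cst r hr 0
  have v0 : φ r hr 0 (x r 1) = PowerSeries.X := φ_x_other r hr 0
  have v1 : φ r hr 1 (x r 1) = 0 := φ_x_self r hr 1
  have u0 : φ r hr 0 (x r 0) = 0 := φ_x_self r hr 0
  have u1 : φ r hr 1 (x r 0) = PowerSeries.X := φ_x_other' r hr 0
  choose c1 hc1 using fun n : ℕ => Ideal.Quotient.mk_surjective (PowerSeries.coeff n (φ r hr 0 y))
  let s1 : A := ∑ j : Fin a, cst r (c1 j) * x r 1 ^ (j : ℕ)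
  have hs1 : ∀ n < a + 0, PowerSeries.coeff n (φ r hr 0 (y - s1)) = 0 := fun n hn => by
    rw [map_sub, map_sub, map_sum, map_sum, Finset.sum_eq_single (⟨n, by omega⟩ : Fin a)]
    · simp [e0, v0, hc1]
    · intro j _ hj
      simp [e0, v0, PowerSeries.coeff_X_pow, Fin.val_ne_of_ne hj.symm]
    · simp
  obtain ⟨G0, hG0⟩ := exists_mul_eq_of_low hunit h.low₀ h.top₀ hs1
  obtain ⟨g0, hg0⟩ := φ_surjective r hr 0 G0
  obtain ⟨γ, g1, g2, hg⟩ := Groth.L14.Node.decomp r g0
  let g : A := cst r γ + x r 1 * g2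
  have hy0 : φ r hr 0 (y - s1 - f * g) = 0 := by
    rw [map_sub, hG0, pow_zero, one_mul, ← hg0, hg]
    simp [g, u0]
  choose c2 hc2 using fun n : ℕ => Ideal.Quotient.mk_surjective (PowerSeries.coeff n (φ r hr 1 (y - s1 - f * g)))
  let s2 : A := ∑ j : Fin b, cst r (c2 (j + 1)) * x r 0 ^ ((j : ℕ) + 1)
  have hs2 : ∀ n < b + 1, PowerSeries.coeff n (φ r hr 1 (y - s1 - f * g - s2)) = 0 := fun n hn => by
    rcases n with _ | n
    · refine (constantCoeff_φ r hr 0 _).symm.trans ?_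
      rw [map_sub, hy0]
      simp [s2, u0]
    · rw [map_sub, map_sub, map_sum, map_sum, Finset.sum_eq_single (⟨n, by omega⟩ : Fin b)]
      · rw [map_mul, φ_cst, map_pow, u1, PowerSeries.coeff_C_mul_X_pow, if_pos rfl, hc2, map_sub, map_sub, sub_self]
      · intro j _ hj
        simp [φ_cst, u1, PowerSeries.coeff_X_pow, Fin.val_ne_of_ne hj.symm]
      · simp
  obtain ⟨H, hH⟩ := exists_mul_eq_of_low hunit h.low₁ h.top₁ hs2
  obtain ⟨h1, hh1⟩ := φ_surjective r hr 1 H
  refine ⟨Sum.elim (fun j => c1 j) (fun j => c2 (j + 1)), g + x r 0 * h1, mem_map_maximalIdeal_of_φ r hr _ ?_⟩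
  intro i
  have e : y - (∑ l, cst r (Sum.elim (fun j : Fin a => c1 j) (fun j : Fin b => c2 (j + 1)) l) * basisFun r a b l) -
      f * (g + x r 0 * h1) = y - s1 - f * g - s2 - f * (x r 0 * h1) := by
    rw [Fintype.sum_sum_type]
    simp only [basisFun, Sum.elim_inl, Sum.elim_inr, s1, s2]
    ring
  rw [e]
  fin_cases i
  · show φ r hr 0 _ = 0
    rw [map_sub, map_sub, hy0]
    simp [s2, u0]
  · show φ r hr 1 _ = 0
    rw [map_sub, hH]
    simp [u1, hh1]

theorem eq_zero_of_coeff_mul {S : Type u} [CommRing S] (J : Ideal S) (F G : LaurentSeries S) (a : ℕ) (e : ℤ)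
    (hFlow : ∀ i < (a : ℤ), ∀ z ∈ J, F.coeff i * z = 0) (hG : ∀ j, G.coeff j ∈ J)
    (hGlow : ∀ j < e, G.coeff j = 0) :
    (∀ n < (a : ℤ) + e, (F * G).coeff n = 0) ∧
      (IsUnit (F.coeff a) → (∀ n, (a : ℤ) + e ≤ n → (F * G).coeff n = 0) → ∀ j, G.coeff j = 0) := by
  have hterm : ∀ (n i j : ℤ), i + j = n → (∀ j' < n - a, G.coeff j' = 0) → i ≠ a → F.coeff i * G.coeff j = 0 := by
    intro n i j hij hlow hi
    rcases lt_or_gt_of_ne hi with hi' | hi'
    · exact hFlow i hi' _ (hG j)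
    · rw [hlow j (by omega), mul_zero]
  have hcoeff : ∀ n : ℤ, (∀ j' < n - a, G.coeff j' = 0) → (F * G).coeff n = F.coeff a * G.coeff (n - a) := by
    intro n hlow
    rw [HahnSeries.coeff_mul, Finset.sum_eq_single ((a : ℤ), n - a)]
    · rintro ⟨i, j⟩ hij hne
      have hsum : i + j = n := (Finset.mem_antidiagonal.mp hij).2.2
      refine hterm n i j hsum hlow fun hi => hne ?_
      subst hi
      exact Prod.ext rfl (by omega)
    · intro hn
      simp only [Finset.mem_antidiagonal, HahnSeries.mem_support, ne_eq, not_and] at hn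
      by_contra hne
      exact hn (left_ne_zero_of_mul hne) (right_ne_zero_of_mul hne) (by omega)
  refine ⟨fun n hn => ?_, fun hu hz j => ?_⟩
  · rw [hcoeff n (fun j' hj' => hGlow j' (by omega)), hGlow _ (by omega), mul_zero]
  · suffices ∀ d : ℕ, G.coeff (e + d) = 0 by
      rcases lt_or_ge j e with hj | hj
      · exact hGlow j hj
      · obtain ⟨d, rfl⟩ : ∃ d : ℕ, j = e + d := ⟨(j - e).toNat, by omega⟩
        exact this d
    intro d
    induction d using Nat.strong_induction_on with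
    | _ d ih =>
      have h := hcoeff ((a : ℤ) + e + d) (fun j' hj' => by
        rcases lt_or_ge j' e with hj | hj
        · exact hGlow j' hj
        · obtain ⟨d', rfl⟩ : ∃ d' : ℕ, j' = e + d' := ⟨(j' - e).toNat, by omega⟩
          exact ih d' (by omega))
      rw [hz _ (by omega), show (a : ℤ) + e + d - a = e + d by ring] at h
      exact hu.mul_right_eq_zero.1 h.symm

section Unique

variable [IsDomain R] [IsPrecomplete (maximalIdeal R) R]

theorem step_unique {f : A} {a b : ℕ} (h : HasOrders r hr f a b) (N : ℕ) (c : Fin a ⊕ Fin b → R)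
    (hc : ∀ l, c l ∈ maximalIdeal R ^ N) (g : A) (hg : g ∈ (maximalIdeal R ^ N).map (algebraMap R A))
    (e : ∑ l, cst r (c l) * basisFun r a b l = f * g) :
    (∀ l, c l ∈ maximalIdeal R ^ (N + 1)) ∧ g ∈ (maximalIdeal R ^ (N + 1)).map (algebraMap R A) := by
  classical
  let ρ := Ideal.Quotient.mk (maximalIdeal R ^ (N + 1))
  have hk : ρ r ^ (N + 1) = 0 := Groth.L01.NodeUnits.mk_pow_eq_zero hr _
  let P := Ps r ρ (N + 1) hk
  let J : Ideal (R ⧸ maximalIdeal R ^ (N + 1)) := (maximalIdeal R ^ N).map ρ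
  have hann : ∀ m ∈ maximalIdeal R, ∀ z ∈ J, ρ m * z = 0 := fun m hm z hz => by
    obtain ⟨z', hz', rfl⟩ := (Ideal.mem_map_iff_of_surjective ρ Ideal.Quotient.mk_surjective).1 hz
    rw [← map_mul]
    exact Ideal.Quotient.eq_zero_iff_mem.2 (by rw [pow_succ']; exact Ideal.mul_mem_mul hm hz')
  -- the coefficients of `g`
  have hgJ : ∀ i n, (P i g).coeff n ∈ J ∧ (n < 0 → (P i g).coeff n = 0) := by
    refine Submodule.span_induction (p := fun g _ => ∀ i n, (P i g).coeff n ∈ J ∧ (n < 0 → (P i g).coeff n = 0))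
      ?_ (fun i n => by simp [P]) (fun _ _ _ _ h1 h2 i n => ?_) (fun s z _ hz i n => ?_) hg
    · rintro _ ⟨m, hm, rfl⟩ i n
      rw [← mul_one (algebraMap R A m)]
      refine ⟨?_, fun hn => ?_⟩
      · show (Ps r ρ (N + 1) hk i (cst r m * 1)).coeff n ∈ J
        rw [coeff_Ps_cst_mul]
        exact Ideal.mul_mem_right _ _ (Ideal.mem_map_of_mem _ hm)
      · show (Ps r ρ (N + 1) hk i (cst r m * 1)).coeff n = 0
        obtain ⟨s, hs⟩ := dvd_coeff_Ps_of_neg r ρ (N + 1) hk i 1 n hn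
        rw [coeff_Ps_cst_mul, hs, mul_left_comm]
        exact hann r hr _ (Ideal.mul_mem_right _ _ (Ideal.mem_map_of_mem _ hm))
    · rw [map_add, HahnSeries.coeff_add]
      exact ⟨add_mem (h1 i n).1 (h2 i n).1, fun hn => by rw [(h1 i n).2 hn, (h2 i n).2 hn, add_zero]⟩
    · have hlow : ∀ i' < ((0 : ℕ) : ℤ), ∀ w ∈ J, (P i s).coeff i' * w = 0 := fun i' hi' w hw => by
        obtain ⟨t, ht⟩ := dvd_coeff_Ps_of_neg r ρ (N + 1) hk i s i' (by simpa using hi')
        show (Ps r ρ (N + 1) hk i s).coeff i' * w = 0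
        rw [ht, mul_right_comm, hann r hr w hw, zero_mul]
      rw [smul_eq_mul, map_mul]
      refine ⟨?_, fun hn => (eq_zero_of_coeff_mul J _ _ 0 0 hlow (fun j => (hz i j).1) fun j hj => (hz i j).2 hj).1 n (by simpa using hn)⟩
      rw [HahnSeries.coeff_mul]
      exact Ideal.sum_mem _ fun p _ => Ideal.mul_mem_left _ _ (hz i _).1
  -- the coefficients of `f`
  have hf : ∀ (i : Fin 2) (m : ℕ), (P i f).coeff m - ρ ((fun F => coeff (Finsupp.single (1 - i) m) F)
      (Quotient.out f)) ∈ Ideal.span {ρ r} := by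
    intro i m
    obtain ⟨F, hF⟩ : ∃ F, Quotient.out f = F := ⟨_, rfl⟩
    have hfF : f = Ideal.Quotient.mk _ F := by rw [← hF]; exact (Quotient.out_eq f).symm
    show (P i f).coeff m - ρ (coeff (Finsupp.single (1 - i) m) (Quotient.out f)) ∈ _
    rw [hF, hfF, coeff_Ps, Finset.sum_range_succ' (fun j => if 0 ≤ (m : ℤ) + (j : ℕ) then
      ρ r ^ j * ρ (coeff (exi i j ((m : ℤ) + (j : ℕ)).toNat) F) else 0)]
    simp only [Nat.cast_zero, add_zero, Int.natCast_nonneg, if_true, pow_zero, one_mul, Int.toNat_natCast,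
      exi_zero, add_sub_cancel_right]
    refine Ideal.sum_mem _ fun j _ => ?_
    split_ifs
    · exact Ideal.mul_mem_right _ _ (Ideal.mem_span_singleton.2 (dvd_pow_self _ j.succ_ne_zero))
    · exact zero_mem _
  have hfφ : ∀ (i : Fin 2) (m : ℕ), PowerSeries.coeff m (φ r hr i f) =
      Ideal.Quotient.mk _ (coeff (Finsupp.single (1 - i) m) (Quotient.out f)) := fun i m => by
    conv_lhs => rw [← Quotient.out_eq f]
    exact coeff_φ_mk r hr i _ m
  have hflow : ∀ (i : Fin 2) (d : ℕ), (∀ m < d, PowerSeries.coeff m (φ r hr i f) = 0) →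
      ∀ j < (d : ℤ), ∀ z ∈ J, (P i f).coeff j * z = 0 := by
    intro i d hd j hj z hz
    rcases lt_or_ge j 0 with hj0 | hj0
    · obtain ⟨t, ht⟩ := dvd_coeff_Ps_of_neg r ρ (N + 1) hk i f j hj0
      show (Ps r ρ (N + 1) hk i f).coeff j * z = 0
      rw [ht, mul_right_comm, hann r hr z hz, zero_mul]
    · obtain ⟨m, rfl⟩ := Int.eq_ofNat_of_zero_le hj0
      have hm := hd m (by omega)
      rw [hfφ, Ideal.Quotient.eq_zero_iff_mem] at hm
      obtain ⟨t, ht⟩ := Ideal.mem_span_singleton.1 (hf i m)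
      rw [sub_eq_iff_eq_add] at ht
      rw [ht, add_mul, mul_right_comm, hann r hr z hz, zero_mul, zero_add]
      exact hann _ hm z hz
  have hfunit : ∀ (i : Fin 2) (d : ℕ), PowerSeries.coeff d (φ r hr i f) ≠ 0 → IsUnit ((P i f).coeff d) := by
    intro i d hd
    rw [hfφ, Ne, Ideal.Quotient.eq_zero_iff_mem] at hd
    obtain ⟨t, ht⟩ := Ideal.mem_span_singleton.1 (hf i d)
    rw [sub_eq_iff_eq_add] at ht
    rw [ht]
    obtain ⟨t', rfl⟩ := Ideal.Quotient.mk_surjective t
    rw [← map_mul, ← map_add]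
    refine IsUnit.map _ (not_not.1 fun hu => hd ?_)
    have h1 : r * t' + coeff (Finsupp.single (1 - i) d) (Quotient.out f) ∈ maximalIdeal R := hu
    simpa using sub_mem h1 (Ideal.mul_mem_right t' _ hr)
  have hJ : ∀ l, ρ (c l) ∈ J := fun l => Ideal.mem_map_of_mem _ (hc l)
  have hu0 : ∀ i (l : R), l ∈ maximalIdeal R ^ N → ∀ (j : ℕ), 0 < j → P i (cst r l * x r i ^ j) = 0 := by
    intro i l hl j hj
    ext n
    show (Ps r ρ (N + 1) hk i (cst r l * x r i ^ j)).coeff n = _
    rw [coeff_Ps_cst_mul, map_pow, Ps_x_self, HahnSeries.single_pow, HahnSeries.coeff_single, HahnSeries.coeff_zero]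
    split_ifs
    · obtain ⟨t, ht⟩ : ρ r ∣ ρ r ^ j := dvd_pow_self _ (by omega)
      rw [ht, mul_left_comm]
      exact hann r hr _ (Ideal.mul_mem_right _ _ (Ideal.mem_map_of_mem _ hl))
    · rw [mul_zero]
  have hv : ∀ i (l : R) (j : ℕ) (n : ℤ), (P i (cst r l * x r (1 - i) ^ j)).coeff n = if n = j then ρ l else 0 := by
    intro i l j n
    show (Ps r ρ (N + 1) hk i (cst r l * x r (1 - i) ^ j)).coeff n = _
    rw [coeff_Ps_cst_mul, map_pow, Ps_x_other, HahnSeries.single_pow, one_pow, HahnSeries.coeff_single]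
    simp only [nsmul_one]
    split_ifs <;> simp
  rw [Fintype.sum_sum_type] at e
  simp only [basisFun, Sum.elim_inl, Sum.elim_inr] at e
  -- the branch `u = 0`
  have hL : ∀ n, (P 0 (f * g)).coeff n = ∑ j : Fin a, if n = ((j : ℕ) : ℤ) then ρ (c (Sum.inl j)) else 0 := by
    intro n
    rw [← e, map_add, map_sum, map_sum, HahnSeries.coeff_add, HahnSeries.coeff_sum, HahnSeries.coeff_sum,
      Finset.sum_eq_zero (s := (Finset.univ : Finset (Fin b))) (fun j _ => by
        rw [hu0 0 _ (hc _) _ (Nat.succ_pos _), HahnSeries.coeff_zero]), add_zero]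
    exact Finset.sum_congr rfl fun j _ => hv 0 _ _ _
  obtain ⟨hA1, hA2⟩ := eq_zero_of_coeff_mul J (P 0 f) (P 0 g) a 0 (hflow 0 a h.low₀) (fun j => (hgJ 0 j).1)
    (fun j hj => (hgJ 0 j).2 hj)
  simp only [← map_mul, add_zero] at hA1 hA2
  have hca : ∀ j : Fin a, ρ (c (Sum.inl j)) = 0 := fun j => by
    have h0 := hA1 (j : ℕ) (by have := j.isLt; omega)
    rw [hL, Finset.sum_eq_single j (fun j' _ hj' => if_neg (by simpa using Fin.val_ne_of_ne hj'.symm)) (by simp),
      if_pos rfl] at h0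
    exact h0
  have hg0 : ∀ n, (P 0 g).coeff n = 0 := hA2 (hfunit 0 a h.top₀) fun n _ => by
    rw [hL]
    exact Finset.sum_eq_zero fun j _ => by rw [hca]; simp
  -- the branch `v = 0`
  have hR : ∀ n, (P 1 (f * g)).coeff n = ∑ j : Fin b, if n = (((j : ℕ) + 1 : ℕ) : ℤ) then ρ (c (Sum.inr j)) else 0 := by
    intro n
    rw [← e, map_add, map_sum, map_sum, HahnSeries.coeff_add, HahnSeries.coeff_sum, HahnSeries.coeff_sum,
      Finset.sum_eq_zero (s := (Finset.univ : Finset (Fin a))) (fun j _ => by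
        show (Ps r ρ (N + 1) hk 1 (cst r _ * _)).coeff n = 0
        rw [coeff_Ps_cst_mul, hca, zero_mul]), zero_add]
    exact Finset.sum_congr rfl fun j _ => hv 1 _ _ _
  obtain ⟨hB1, hB2⟩ := eq_zero_of_coeff_mul J (P 1 f) (P 1 g) b 1 (hflow 1 b h.low₁) (fun j => (hgJ 1 j).1)
    (fun j hj => by
      rcases lt_or_eq_of_le (show j ≤ 0 by omega) with h' | rfl
      · exact (hgJ 1 j).2 h'
      · exact (coeff_Ps_zero r ρ (N + 1) hk 1 g).trans (hg0 0))
  simp only [← map_mul] at hB1 hB2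
  have hcb : ∀ j : Fin b, ρ (c (Sum.inr j)) = 0 := fun j => by
    have h0 := hB1 ((j : ℕ) + 1 : ℕ) (by have := j.isLt; omega)
    rw [hR, Finset.sum_eq_single j (fun j' _ hj' => if_neg (by
      simpa using Fin.val_ne_of_ne hj'.symm)) (by simp), if_pos rfl] at h0
    exact h0
  have hg1 : ∀ n, (P 1 g).coeff n = 0 := hB2 (hfunit 1 b h.top₁) fun n _ => by
    rw [hR]
    exact Finset.sum_eq_zero fun j _ => by rw [hcb]; simp
  refine ⟨?_, mem_map_pow_of_Ps r hr (N + 1) hk g fun i n => by fin_cases i; exacts [hg0 n, hg1 n]⟩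
  rintro (j | j)
  exacts [Ideal.Quotient.eq_zero_iff_mem.1 (hca j), Ideal.Quotient.eq_zero_iff_mem.1 (hcb j)]

theorem basisMap_injective {f : A} {a b : ℕ} (h : HasOrders r hr f a b) :
    Function.Injective (basisMap r f a b) := by
  rw [injective_iff_map_eq_zero]
  intro c hc
  rw [basisMap_apply, Ideal.Quotient.eq_zero_iff_mem, Ideal.mem_span_singleton] at hc
  obtain ⟨g, hg⟩ := hc
  have hN : ∀ N, (∀ l, c l ∈ maximalIdeal R ^ N) ∧ g ∈ (maximalIdeal R ^ N).map (algebraMap R A) := fun N => by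
    induction N with
    | zero => simp [Ideal.map_top]
    | succ N ih => exact step_unique h N c ih.1 g ih.2 hg
  exact funext fun l => Groth.L01.NodeUnits.eq_zero_of_forall_mem_pow fun N => (hN N).1 l

end Unique

theorem map_maximalIdeal_le [Nontrivial (R ⧸ Ideal.span ({r} : Set R))] :
    (maximalIdeal R).map (algebraMap R A) ≤ maximalIdeal A := by
  rw [Ideal.map_le_iff_le_comap]
  intro c hc hu
  have := hu.map (br r 0)
  rw [show algebraMap R A c = cst r c from rfl, Groth.L14.Node.br_cst, PowerSeries.isUnit_iff_constantCoeff,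
    PowerSeries.constantCoeff_C] at this
  haveI : IsLocalHom (Ideal.Quotient.mk (Ideal.span ({r} : Set R))) :=
    .of_surjective _ Ideal.Quotient.mk_surjective
  exact hc (IsLocalHom.map_nonunit (f := Ideal.Quotient.mk (Ideal.span ({r} : Set R))) c ‹IsUnit _›)

instance isNoetherianRing_nodeAlg : IsNoetherianRing A :=
  haveI := Groth.L06.CTens.isNoetherianRing_ps (n := 2) R
  inferInstanceAs (IsNoetherianRing (MvPowerSeries (Fin 2) R ⧸ _))

include hr in
theorem nontrivial_quotient : Nontrivial (R ⧸ Ideal.span ({r} : Set R)) :=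
  Ideal.Quotient.nontrivial_iff.2 fun h => (maximalIdeal.isMaximal R).ne_top
    (top_le_iff.1 (h ▸ (Ideal.span_singleton_le_iff_mem _).2 hr))

theorem basisMap_surjective [IsPrecomplete (maximalIdeal R) R] {f : A} {a b : ℕ} (h : HasOrders r hr f a b) :
    Function.Surjective (basisMap r f a b) := by
  haveI := nontrivial_quotient (r := r) (hr := hr)
  haveI : IsPrecomplete (maximalIdeal R) (Fin a ⊕ Fin b → R) :=
    Groth.Lead.ChevalleyModule.isPrecomplete_of_finite _
  haveI : IsHausdorff (maximalIdeal R) (A ⧸ Ideal.span {f}) := by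
    refine ⟨fun z hz => ?_⟩
    by_cases hf : Ideal.span {f} = ⊤
    · haveI : Subsingleton (A ⧸ Ideal.span {f}) := Ideal.Quotient.subsingleton_iff.2 hf
      exact Subsingleton.elim _ _
    refine Submodule.mem_bot (R := A) |>.1 ?_
    rw [← Ideal.iInf_pow_smul_eq_bot_of_isLocalRing (M := A ⧸ Ideal.span {f}) (maximalIdeal A)
      (maximalIdeal.isMaximal _).ne_top, Submodule.mem_iInf]
    intro N
    have hN : z ∈ (maximalIdeal R ^ N • ⊤ : Submodule R (A ⧸ Ideal.span {f})) := by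
      simpa [SModEq.zero] using hz N
    refine Submodule.smul_induction_on hN (fun c hc w _ => ?_) (fun _ _ => add_mem)
    rw [← algebraMap_smul A c w]
    refine Submodule.smul_mem_smul ?_ trivial
    exact Ideal.pow_right_mono map_maximalIdeal_le N (by rw [← Ideal.map_pow]; exact Ideal.mem_map_of_mem _ hc)
  refine surjective_of_mkQ_comp_surjective (I := maximalIdeal R) fun w => ?_
  obtain ⟨z, rfl⟩ := Submodule.mkQ_surjective _ w
  obtain ⟨y, rfl⟩ := Ideal.Quotient.mk_surjective z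
  obtain ⟨c, g, hcg⟩ := exists_low_poly h y
  refine ⟨c, ((Submodule.Quotient.eq _).2 ?_).symm⟩
  have hmem : ∀ m ∈ (maximalIdeal R).map (algebraMap R A), (Ideal.Quotient.mk (Ideal.span {f}) m) ∈
      (maximalIdeal R • ⊤ : Submodule R (A ⧸ Ideal.span {f})) := by
    intro m hm
    refine Submodule.span_induction ?_ (by simp) (fun _ _ _ _ h1 h2 => by rw [map_add]; exact add_mem h1 h2)
      (fun s m _ hm => ?_) hm
    · rintro _ ⟨e, he, rfl⟩
      rw [show Ideal.Quotient.mk (Ideal.span {f}) (algebraMap R A e) = e • (1 : A ⧸ Ideal.span {f}) from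
        congrArg (Ideal.Quotient.mk (Ideal.span {f})) (Algebra.algebraMap_eq_smul_one e)]
      exact Submodule.smul_mem_smul he trivial
    · rw [smul_eq_mul, map_mul]
      refine Submodule.smul_induction_on hm (fun e he w _ => ?_) (fun w w' h1 h2 => by rw [mul_add]; exact add_mem h1 h2)
      rw [mul_smul_comm]
      exact Submodule.smul_mem_smul he trivial
  rw [basisMap_apply, ← map_sub]
  have := hmem _ hcg
  rwa [map_sub (Ideal.Quotient.mk (Ideal.span {f})) _ (f * g), Ideal.Quotient.eq_zero_iff_mem.2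
    (Ideal.mul_mem_right g (Ideal.span {f}) (Ideal.mem_span_singleton_self f)), sub_zero] at this

end Groth.L04.NodeUFD
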