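import Groth.Agent.L04.NodeUFD.Prime
import Mathlib.RingTheory.UniqueFactorizationDomain.Kaplansky
import Mathlib.RingTheory.Ideal.KrullsHeightTheorem
import Mathlib.RingTheory.Flat.Stability
import Mathlib.RingTheory.AdicCompletion.AsTensorProduct
import Mathlib.RingTheory.MvPowerSeries.Equiv

/-!
`R⟦u, v⟧/(uv - r)` is factorial exactly when `r` is prime.
-/

set_option autoImplicit false
set_option linter.style.haveILetI false
set_option linter.unusedSectionVars false
universe u

open IsLocalRing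

noncomputable section

namespace Groth.L04.NodeUFD

open Groth.L14.Node (x cst br)
open Groth.L01.NodeUnits (canon rel cc)

namespace Fac

variable {A : Type u} [CommRing A] [IsDomain A] [IsNoetherianRing A]

theorem eq_bot_of_lt_principal {π : A} (hπ : Prime π) {Q : Ideal A} [Q.IsPrime] (hQ : Q ≤ Ideal.span {π})
    (h : π ∉ Q) : Q = ⊥ := by
  rw [eq_bot_iff]
  intro z
  refine (wellFounded_dvdNotUnit (α := A)).induction (C := fun z => z ∈ Q → z ∈ (⊥ : Ideal A)) z fun z ih hz => ?_
  obtain ⟨y, rfl⟩ := Ideal.mem_span_singleton.1 (hQ hz)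
  have hy : y ∈ Q := (Ideal.IsPrime.mem_or_mem inferInstance hz).resolve_left h
  rw [Ideal.mem_bot]
  by_contra hne
  exact right_ne_zero_of_mul hne (ih y ⟨right_ne_zero_of_mul hne, π, hπ.not_isUnit, mul_comm _ _⟩ hy)

theorem exists_eq_span_of_prod {P : Ideal A} [P.IsPrime] (t : Multiset A) (ht : ∀ g ∈ t, Prime g ∧ g ∉ P) :
    ∀ h : A, h ∈ P → h ≠ 0 → (∀ p ∈ P, t.prod * p ∈ Ideal.span {h}) → ∃ h', P = Ideal.span {h'} := by
  induction t using Multiset.induction_on with
  | empty =>
    intro h hh _ H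
    exact ⟨h, le_antisymm (fun p hp => by simpa using H p hp) ((Ideal.span_singleton_le_iff_mem _).2 hh)⟩
  | cons g t ih =>
    intro h hh h0 H
    obtain ⟨hg, hgP⟩ := ht g (Multiset.mem_cons_self _ _)
    have ih' := ih fun g' hg' => ht g' (Multiset.mem_cons_of_mem hg')
    by_cases hdvd : g ∣ h
    · obtain ⟨h1, rfl⟩ := hdvd
      refine ih' h1 ((Ideal.IsPrime.mem_or_mem inferInstance hh).resolve_left hgP) (right_ne_zero_of_mul h0)
        fun p hp => ?_
      obtain ⟨w, hw⟩ := Ideal.mem_span_singleton.1 (H p hp)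
      rw [Multiset.prod_cons, mul_assoc, mul_assoc] at hw
      exact Ideal.mem_span_singleton.2 ⟨w, mul_left_cancel₀ hg.ne_zero hw⟩
    · refine ih' h hh h0 fun p hp => ?_
      obtain ⟨w, hw⟩ := Ideal.mem_span_singleton.1 (H p hp)
      rw [Multiset.prod_cons, mul_assoc] at hw
      obtain ⟨w', rfl⟩ := (hg.dvd_or_dvd ⟨_, hw.symm⟩).resolve_left hdvd
      refine Ideal.mem_span_singleton.2 ⟨w', mul_left_cancel₀ hg.ne_zero ?_⟩
      rw [hw]; ring

variable (q : Fin 2 → Ideal A) [∀ i, (q i).IsPrime]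

theorem exists_prod (hS : ∀ f, ¬ IsUnit f → (∀ i, f ∉ q i) → ∀ P ∈ (Ideal.span {f}).minimalPrimes,
      ∃ g, P = Ideal.span {g} ∧ ∀ i, g ∉ q i) (f : A) :
    (∀ i, f ∉ q i) → ∃ t : Multiset A, (∀ g ∈ t, Prime g ∧ ∀ i, g ∉ q i) ∧ Associated t.prod f := by
  refine (wellFounded_dvdNotUnit (α := A)).induction (C := fun f => (∀ i, f ∉ q i) →
    ∃ t : Multiset A, (∀ g ∈ t, Prime g ∧ ∀ i, g ∉ q i) ∧ Associated t.prod f) f fun f ih hf => ?_
  by_cases hu : IsUnit f
  · exact ⟨0, by simp, by simpa using (associated_one_iff_isUnit.2 hu).symm⟩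
  have hne : Ideal.span {f} ≠ ⊤ := mt Ideal.span_singleton_eq_top.1 hu
  obtain ⟨M, hM, hle⟩ := Ideal.exists_le_maximal _ hne
  haveI := hM.isPrime
  obtain ⟨P, hP, -⟩ := Ideal.exists_minimalPrimes_le hle
  obtain ⟨g, rfl, hg⟩ := hS f hu hf P hP
  obtain ⟨y, rfl⟩ := Ideal.mem_span_singleton.1 (hP.1.2 (Ideal.subset_span rfl))
  have hg0 : g ≠ 0 := fun h => hg 0 (h ▸ zero_mem _)
  have hgp : Prime g := (Ideal.span_singleton_prime hg0).1 hP.1.1
  have hy0 : y ≠ 0 := fun h => hf 0 (by rw [h, mul_zero]; exact zero_mem _)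
  obtain ⟨t, ht, hty⟩ := ih y ⟨hy0, g, hgp.not_isUnit, mul_comm _ _⟩ fun i h => hf i (Ideal.mul_mem_left _ _ h)
  refine ⟨g ::ₘ t, fun g' hg' => ?_, by rw [Multiset.prod_cons]; exact hty.mul_left g⟩
  rcases Multiset.mem_cons.1 hg' with rfl | h
  exacts [⟨hgp, hg⟩, ht g' h]

local notation "L" => fun i => Localization.AtPrime (q i)

theorem exists_generator (i : Fin 2) (P : Ideal A) [P.IsPrime]
    (hP1 : ∀ P' : Ideal A, P'.IsPrime → P' ≤ P → P' ≠ ⊥ → P' = P) (hP0 : P ≠ ⊥)
    [UniqueFactorizationMonoid (Localization.AtPrime (q i))] :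
    ∃ h ∈ P, P.map (algebraMap A (Localization.AtPrime (q i))) =
      Ideal.span {algebraMap A (Localization.AtPrime (q i)) h} := by
  let S := Localization.AtPrime (q i)
  suffices ∃ π : S, P.map (algebraMap A S) = Ideal.span {π} by
    obtain ⟨π, hπ⟩ := this
    obtain ⟨⟨⟨h, hh⟩, ⟨s, hs⟩⟩, e⟩ := (IsLocalization.mem_map_algebraMap_iff (q i).primeCompl S).1
      (hπ.ge (Ideal.subset_span rfl))
    refine ⟨h, hh, ?_⟩
    have hu : IsUnit (algebraMap A S s) := IsLocalization.map_units S (⟨s, hs⟩ : (q i).primeCompl)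
    rw [hπ, ← e, Ideal.span_singleton_mul_right_unit hu]
  by_cases hle : P ≤ q i
  · have hdisj : Disjoint ((q i).primeCompl : Set A) (P : Set A) :=
      Set.disjoint_left.2 fun z hz hzP => hz (hle hzP)
    haveI hPp : (P.map (algebraMap A S)).IsPrime := IsLocalization.isPrime_of_isPrime_disjoint _ S P ‹_› hdisj
    have hinj : Function.Injective (algebraMap A S) :=
      IsLocalization.injective S (Ideal.primeCompl_le_nonZeroDivisors (q i))
    have hne : P.map (algebraMap A S) ≠ ⊥ := fun h => hP0 ((Ideal.map_eq_bot_iff_of_injective hinj).1 h)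
    obtain ⟨π, hπP, hπ⟩ := hPp.exists_mem_prime_of_ne_bot hne
    haveI : (Ideal.span {π}).IsPrime := (Ideal.span_singleton_prime hπ.ne_zero).2 hπ
    refine ⟨π, ?_⟩
    have hcomap : (Ideal.span {π}).comap (algebraMap A S) = P := by
      refine hP1 _ (Ideal.IsPrime.comap _) ?_ fun hbot => ?_
      · refine (Ideal.comap_mono ((Ideal.span_singleton_le_iff_mem _).2 hπP)).trans_eq ?_
        exact IsLocalization.comap_map_of_isPrime_disjoint _ S ‹P.IsPrime› hdisj
      · obtain ⟨⟨a, s⟩, e⟩ := IsLocalization.surj (q i).primeCompl π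
        have hamem : a ∈ (Ideal.span {π}).comap (algebraMap A S) := by
          rw [Ideal.mem_comap, ← e]
          exact Ideal.mul_mem_right _ _ (Ideal.subset_span rfl)
        rw [hbot, Ideal.mem_bot] at hamem
        rw [hamem, map_zero, mul_eq_zero] at e
        exact e.elim hπ.ne_zero (IsLocalization.map_units S s).ne_zero
    rw [← hcomap, ← Ideal.under_def, IsLocalization.map_under (q i).primeCompl S]
  · refine ⟨1, ?_⟩
    obtain ⟨z, hz, hzq⟩ := SetLike.not_le_iff_exists.1 hle
    rw [Ideal.span_singleton_one]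
    exact Ideal.eq_top_of_isUnit_mem _ (Ideal.mem_map_of_mem _ hz)
      (IsLocalization.map_units S (⟨z, hzq⟩ : (q i).primeCompl))

theorem exists_combined (P : Ideal A) (h : Fin 2 → A) (hP : ∀ i, h i ∈ P)
    (hgen : ∀ i, P.map (algebraMap A (Localization.AtPrime (q i))) =
      Ideal.span {algebraMap A (Localization.AtPrime (q i)) (h i)}) :
    ∃ z ∈ P, ∀ i, P.map (algebraMap A (Localization.AtPrime (q i))) =
      Ideal.span {algebraMap A (Localization.AtPrime (q i)) z} := by
  let G : Fin 2 → A → Prop := fun i z => P.map (algebraMap A (Localization.AtPrime (q i))) =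
    Ideal.span {algebraMap A (Localization.AtPrime (q i)) z}
  have key : ∀ i a b, G i a → b ∈ P → ¬ G i b → G i (a + b) := fun i a b ha hb hnb => by
    have hm : algebraMap A (Localization.AtPrime (q i)) b ∈ P.map (algebraMap A (Localization.AtPrime (q i))) :=
      Ideal.mem_map_of_mem _ hb
    have ha' : P.map (algebraMap A (Localization.AtPrime (q i))) =
        Ideal.span {algebraMap A (Localization.AtPrime (q i)) a} := ha
    rw [ha'] at hm
    obtain ⟨w, hw⟩ := Ideal.mem_span_singleton.1 hm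
    have hwu : ¬ IsUnit w := fun hu => hnb (by
      show P.map _ = _
      rw [ha', hw, Ideal.span_singleton_mul_right_unit hu])
    have hu : IsUnit (1 + w) := by
      rcases IsLocalRing.isUnit_or_isUnit_of_isUnit_add (show IsUnit ((1 + w) + -w) by simp) with h | h
      · exact h
      · exact absurd h.neg (by simpa using hwu)
    show P.map _ = _
    rw [ha', map_add, hw, show algebraMap A (Localization.AtPrime (q i)) a + algebraMap A _ a * w =
      algebraMap A (Localization.AtPrime (q i)) a * (1 + w) by ring, Ideal.span_singleton_mul_right_unit hu]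
  by_cases h10 : G 1 (h 0)
  · exact ⟨h 0, hP 0, fun i => by fin_cases i; exacts [hgen 0, h10]⟩
  by_cases h01 : G 0 (h 1)
  · exact ⟨h 1, hP 1, fun i => by fin_cases i; exacts [h01, hgen 1]⟩
  refine ⟨h 0 + h 1, P.add_mem (hP 0) (hP 1), fun i => ?_⟩
  fin_cases i
  · exact key 0 _ _ (hgen 0) (hP 1) h01
  · rw [add_comm]
    exact key 1 _ _ (hgen 1) (hP 0) h10

theorem exists_multiplier {P : Ideal A} {h : A} (i : Fin 2)
    (hh : P.map (algebraMap A (Localization.AtPrime (q i))) =
      Ideal.span {algebraMap A (Localization.AtPrime (q i)) h}) :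
    ∃ s, s ∉ q i ∧ ∀ p ∈ P, s * p ∈ Ideal.span {h} := by
  classical
  have hinj : Function.Injective (algebraMap A (Localization.AtPrime (q i))) :=
    IsLocalization.injective _ (Ideal.primeCompl_le_nonZeroDivisors (q i))
  have h1 : ∀ p ∈ P, ∃ s, s ∉ q i ∧ s * p ∈ Ideal.span {h} := fun p hp => by
    have hm := Ideal.mem_map_of_mem (algebraMap A (Localization.AtPrime (q i))) hp
    rw [hh, ← Set.image_singleton, ← Ideal.map_span] at hm
    obtain ⟨⟨⟨a, ha⟩, ⟨s, hs⟩⟩, e⟩ := (IsLocalization.mem_map_algebraMap_iff (q i).primeCompl _).1 hm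
    refine ⟨s, hs, ?_⟩
    rw [mul_comm, show p * s = a from hinj (by rw [map_mul]; exact e)]
    exact ha
  obtain ⟨T, hT⟩ := IsNoetherian.noetherian P
  choose s hs hsp using fun t : T => h1 t.1 (hT ▸ Submodule.subset_span t.2)
  refine ⟨∏ t, s t, fun hmem => ?_, fun p hp => ?_⟩
  · obtain ⟨t, -, ht⟩ := Ideal.IsPrime.prod_mem_iff.1 hmem
    exact hs t ht
  · rw [← hT] at hp
    refine Submodule.span_induction (fun t ht => ?_) (by simp) (fun _ _ _ _ ha hb => by rw [mul_add]; exact add_mem ha hb)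
      (fun c a _ ha => by rw [smul_eq_mul, mul_left_comm]; exact Ideal.mul_mem_left _ _ ha) hp
    rw [← Finset.mul_prod_erase _ _ (Finset.mem_univ (⟨t, ht⟩ : T)), mul_comm (s _), mul_assoc]
    exact Ideal.mul_mem_left _ _ (hsp ⟨t, ht⟩)

/-- A noetherian domain is factorial if it is so at two primes and outside of them. -/
theorem ufm [∀ i, UniqueFactorizationMonoid (Localization.AtPrime (q i))]
    (hS : ∀ f, ¬ IsUnit f → (∀ i, f ∉ q i) → ∀ P ∈ (Ideal.span {f}).minimalPrimes,
      ∃ g, P = Ideal.span {g} ∧ ∀ i, g ∉ q i) : UniqueFactorizationMonoid A := by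
  rw [UniqueFactorizationMonoid.iff_exists_prime_mem_of_isPrime]
  intro Q hQ hQp
  by_cases hsub : (Q : Set A) ⊆ q 0 ∪ q 1
  swap
  · obtain ⟨f, hfQ, hf⟩ := Set.not_subset.1 hsub
    simp only [Set.mem_union, SetLike.mem_coe, not_or] at hf
    have hf' : ∀ i, f ∉ q i := fun i => by fin_cases i; exacts [hf.1, hf.2]
    obtain ⟨P, hP, hPQ⟩ := Ideal.exists_minimalPrimes_le ((Ideal.span_singleton_le_iff_mem _).2 hfQ)
    obtain ⟨g, rfl, hg⟩ := hS f (fun h => hQp.ne_top (Ideal.eq_top_of_isUnit_mem _ hfQ h)) hf' P hP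
    exact ⟨g, hPQ (Ideal.subset_span rfl),
      (Ideal.span_singleton_prime (fun h => hg 0 (by rw [h]; exact zero_mem _))).1 hP.1.1⟩
  obtain ⟨k, hk⟩ : ∃ k, Q ≤ q k := (Ideal.subset_union.1 hsub).elim (fun h => ⟨0, h⟩) fun h => ⟨1, h⟩
  let S := Localization.AtPrime (q k)
  have hdisj : ∀ P' : Ideal A, P' ≤ q k → Disjoint ((q k).primeCompl : Set A) (P' : Set A) :=
    fun P' h => Set.disjoint_left.2 fun z hz hzP => hz (h hzP)
  have hinj : Function.Injective (algebraMap A S) :=
    IsLocalization.injective S (Ideal.primeCompl_le_nonZeroDivisors (q k))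
  haveI hQS : (Q.map (algebraMap A S)).IsPrime := IsLocalization.isPrime_of_isPrime_disjoint _ S Q hQp (hdisj Q hk)
  obtain ⟨π, hπQ, hπ⟩ := hQS.exists_mem_prime_of_ne_bot fun h => hQ ((Ideal.map_eq_bot_iff_of_injective hinj).1 h)
  haveI : (Ideal.span {π}).IsPrime := (Ideal.span_singleton_prime hπ.ne_zero).2 hπ
  let P := (Ideal.span {π}).comap (algebraMap A S)
  haveI : P.IsPrime := Ideal.IsPrime.comap _
  have hPQ : P ≤ Q := (Ideal.comap_mono ((Ideal.span_singleton_le_iff_mem _).2 hπQ)).trans_eq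
    (IsLocalization.comap_map_of_isPrime_disjoint _ S hQp (hdisj Q hk))
  have hmap : P.map (algebraMap A S) = Ideal.span {π} := IsLocalization.map_under (q k).primeCompl S _
  have hP0 : P ≠ ⊥ := fun h => hπ.ne_zero (by
    rw [← Ideal.span_singleton_eq_bot, ← hmap, h, Ideal.map_bot])
  have hP1 : ∀ P' : Ideal A, P'.IsPrime → P' ≤ P → P' ≠ ⊥ → P' = P := fun P' hP'p hle hne => by
    by_contra hneq
    haveI := IsLocalization.isPrime_of_isPrime_disjoint _ S P' hP'p (hdisj P' ((hle.trans hPQ).trans hk))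
    refine hne ((Ideal.map_eq_bot_iff_of_injective hinj).1
      (eq_bot_of_lt_principal hπ ((Ideal.map_mono hle).trans_eq hmap) fun hmem => hneq (le_antisymm hle ?_)))
    refine le_trans ?_ (IsLocalization.comap_map_of_isPrime_disjoint _ S hP'p (hdisj P' ((hle.trans hPQ).trans hk))).le
    exact Ideal.comap_mono ((Ideal.span_singleton_le_iff_mem _).2 hmem)
  choose h hh hgen using fun i => exists_generator q i P hP1 hP0
  obtain ⟨z, hzP, hz⟩ := exists_combined q P h hh hgen
  obtain ⟨s0, hs0, hs0'⟩ := exists_multiplier q 0 (hz 0)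
  obtain ⟨s1, hs1, hs1'⟩ := exists_multiplier q 1 (hz 1)
  obtain ⟨s, hs, hsP⟩ : ∃ s, (∀ i, s ∉ q i) ∧ ∀ p ∈ P, s * p ∈ Ideal.span {z} := by
    by_cases a : s0 ∈ q 1
    · by_cases b : s1 ∈ q 0
      · refine ⟨s0 + s1, fun i h => ?_, fun p hp => by rw [add_mul]; exact add_mem (hs0' p hp) (hs1' p hp)⟩
        fin_cases i
        · exact hs0 (by simpa using Ideal.sub_mem _ h b)
        · exact hs1 (by simpa using Ideal.sub_mem _ h a)
      · exact ⟨s1, fun i => by fin_cases i; exacts [b, hs1], hs1'⟩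
    · exact ⟨s0, fun i => by fin_cases i; exacts [hs0, a], hs0'⟩
  obtain ⟨t, ht, ⟨e, he⟩⟩ := exists_prod q hS s hs
  have hz0 : z ≠ 0 := fun h => by
    have := hz k
    rw [hmap, h, map_zero, Ideal.span_singleton_eq_bot.2 rfl, Ideal.span_singleton_eq_bot] at this
    exact hπ.ne_zero this
  obtain ⟨g, hg⟩ := exists_eq_span_of_prod t (fun g hg => ⟨(ht g hg).1, fun hgP => (ht g hg).2 k (hk (hPQ hgP))⟩)
    z hzP hz0 fun p hp => by
      have h := Ideal.mul_mem_left (Ideal.span {z}) ((e⁻¹ : Aˣ) : A) (hsP p hp)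
      rwa [← he, show ((e⁻¹ : Aˣ) : A) * (t.prod * (e : A) * p) = t.prod * p * (((e⁻¹ : Aˣ) : A) * e) by ring,
        Units.inv_mul, mul_one] at h
  exact ⟨g, hPQ (hg.ge (Ideal.subset_span rfl)),
    (Ideal.span_singleton_prime (fun h => hP0 (by rw [hg, Ideal.span_singleton_eq_bot]; exact h))).1 (hg ▸ ‹P.IsPrime›)⟩

/-- Regularity at a prime generated up to units by the maximal ideal of the base. -/
theorem isRegular_localization {R : Type u} [CommRing R] [IsRegularLocalRing R] [Algebra R A] [Module.Flat R A]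
    (Q : Ideal A) [Q.IsPrime] (z w : A) (hw : w ∉ Q) (hzw : z * w ∈ (maximalIdeal R).map (algebraMap R A))
    (hQ : Q ≤ (maximalIdeal R).map (algebraMap R A) ⊔ Ideal.span {z})
    (hover : (maximalIdeal R).map (algebraMap R A) ≤ Q) :
    IsRegularLocalRing (Localization.AtPrime Q) := by
  let S := Localization.AtPrime Q
  let I := (maximalIdeal R).map (algebraMap R A)
  have hmax : maximalIdeal S = (maximalIdeal R).map ((algebraMap A S).comp (algebraMap R A)) := by
    rw [← Ideal.map_map, ← IsLocalization.AtPrime.map_eq_maximalIdeal Q S]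
    refine le_antisymm ((Ideal.map_mono hQ).trans ?_) (Ideal.map_mono hover)
    rw [Ideal.map_sup, Ideal.map_span, Set.image_singleton, sup_le_iff, Ideal.span_singleton_le_iff_mem]
    refine ⟨le_rfl, ?_⟩
    have hm := Ideal.mem_map_of_mem (algebraMap A S) hzw
    rw [map_mul] at hm
    exact (Ideal.mul_unit_mem_iff_mem _ (IsLocalization.map_units S (⟨w, hw⟩ : Q.primeCompl))).1 hm
  haveI : Q.LiesOver (maximalIdeal R) := ⟨((maximalIdeal.isMaximal R).eq_of_le (Ideal.IsPrime.comap _).ne_top
    (Ideal.map_le_iff_le_comap.1 hover))⟩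
  haveI : IsNoetherianRing S := IsLocalization.isNoetherianRing Q.primeCompl S inferInstance
  refine IsRegularLocalRing.of_spanFinrank_maximalIdeal_le (R := S) ?_
  have h1 : (maximalIdeal S).spanFinrank ≤ (maximalIdeal R).spanFinrank := by
    rw [hmax]
    exact Ideal.spanFinrank_map_le_of_fg _ (IsNoetherian.noetherian (maximalIdeal R))
  have h2 : (maximalIdeal R).height ≤ Q.height := by
    rw [Ideal.height_eq_height_add_of_liesOver_of_hasGoingDown (maximalIdeal R) Q]
    exact le_self_add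
  calc ((maximalIdeal S).spanFinrank : WithBot ℕ∞) ≤ (maximalIdeal R).spanFinrank := by exact_mod_cast h1
    _ = ringKrullDim R := IsRegularLocalRing.spanFinrank_maximalIdeal
    _ = (maximalIdeal R).height := IsLocalRing.maximalIdeal_height_eq_ringKrullDim.symm
    _ ≤ Q.height := WithBot.coe_le_coe.2 h2
    _ = ringKrullDim S := (IsLocalization.AtPrime.ringKrullDim_eq_height Q S).symm

end Fac

section Flat

variable {R : Type u} [CommRing R] [IsNoetherianRing R]

theorem flat_mvPowerSeries (σ : Type) [Finite σ] : Module.Flat R (MvPowerSeries σ R) := by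
  let P := MvPolynomial σ R
  let C := AdicCompletion (MvPolynomial.idealOfVars σ R) P
  haveI : Module.Flat P C := inferInstance
  haveI : IsScalarTower R P C := IsScalarTower.of_algebraMap_eq fun a => rfl
  haveI : Module.Flat R C := Module.Flat.trans R P C
  let e : C ≃ₐ[R] MvPowerSeries σ R := ((MvPowerSeries.toAdicCompletionAlgEquiv σ R).restrictScalars R).symm
  exact Module.Flat.of_linearEquiv e.symm.toLinearEquiv

variable (R) in
/-- The canonical series as a linear map. -/
def canonL : (MvPowerSeries Unit R × MvPowerSeries Unit R) →ₗ[R] MvPowerSeries (Fin 2) R where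
  toFun p := fun d => if d 0 = 0 then p.1 (Finsupp.single () (d 1)) else
    if d 1 = 0 then p.2 (Finsupp.single () (d 0 - 1)) else 0
  map_add' p p' := by
    refine funext fun d => ?_
    show (if d 0 = 0 then (p.1 (Finsupp.single () (d 1)) + p'.1 (Finsupp.single () (d 1)) : R) else
        if d 1 = 0 then p.2 (Finsupp.single () (d 0 - 1)) + p'.2 (Finsupp.single () (d 0 - 1)) else 0) =
      (if d 0 = 0 then (p.1 (Finsupp.single () (d 1)) : R) else if d 1 = 0 then p.2 (Finsupp.single () (d 0 - 1)) else 0) +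
      (if d 0 = 0 then (p'.1 (Finsupp.single () (d 1)) : R) else if d 1 = 0 then p'.2 (Finsupp.single () (d 0 - 1)) else 0)
    split_ifs
    · rfl
    · rfl
    · rw [add_zero]
  map_smul' c p := by
    funext d
    show _ = c * (if d 0 = 0 then _ else _)
    split_ifs
    · rfl
    · rfl
    · rw [mul_zero]

variable [IsLocalRing R] [IsDomain R] [IsPrecomplete (maximalIdeal R) R]

theorem flat_nodeAlg {r : R} (hr : r ∈ maximalIdeal R) (hr0 : r ≠ 0) : Module.Flat R (ArLef.NodeAlg R r) := by
  haveI := flat_mvPowerSeries (R := R) Unit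
  haveI : Module.Flat R (MvPowerSeries Unit R × MvPowerSeries Unit R) :=
    Module.Flat.of_linearEquiv ((DirectSum.linearEquivFunOnFintype R (Fin 2) fun _ => MvPowerSeries Unit R) ≪≫ₗ
      LinearEquiv.finTwoArrow R (MvPowerSeries Unit R)).symm
  let T : (MvPowerSeries Unit R × MvPowerSeries Unit R) →ₗ[R] ArLef.NodeAlg R r :=
    (Ideal.Quotient.mkₐ R _).toLinearMap ∘ₗ canonL R
  have he : ∀ (p : MvPowerSeries Unit R × MvPowerSeries Unit R), canonL R p =
      canon (fun i => p.1 (Finsupp.single () i))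
        (fun i => if i = 0 then p.1 (Finsupp.single () 0) else p.2 (Finsupp.single () (i - 1))) := fun p => by
    funext d
    show (if d 0 = 0 then _ else _) = (if d 0 = 0 then _ else _)
    split_ifs with h1 h2
    · rfl
    · exact (if_neg h1).symm
    · rfl
  have hsurj : Function.Surjective T := fun y => by
    obtain ⟨F, rfl⟩ := Ideal.Quotient.mk_surjective y
    obtain ⟨a, b, h0, hab⟩ := Groth.L01.NodeUnits.exists_canon hr F
    refine ⟨(fun d => a (d ()), fun d => b (d () + 1)), (Ideal.Quotient.eq.2 ?_).symm⟩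
    have : canonL R ((fun d => a (d ()), fun d => b (d () + 1)) : MvPowerSeries Unit R × MvPowerSeries Unit R) =
        canon a b := by
      funext d
      show (if d 0 = 0 then a _ else _) = (if d 0 = 0 then _ else _)
      split_ifs with h1 h2
      · simp
      · show b _ = _
        congr 1
        simp
        omega
      · rfl
    show F - canonL R _ ∈ _
    rw [this]
    exact hab
  have hinj : Function.Injective T := (injective_iff_map_eq_zero _).2 fun p hp => by
    have hmem : canonL R p ∈ Ideal.span {rel r} := Ideal.Quotient.eq_zero_iff_mem.1 hp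
    have hz : canon (fun _ => (0 : R)) (fun _ => 0) = 0 := MvPowerSeries.ext fun D => by
      show (if D 0 = 0 then (0 : R) else if D 1 = 0 then 0 else 0) = 0
      split_ifs <;> rfl
    rw [he, ← sub_zero (canon _ _), ← hz] at hmem
    have hc := Groth.L01.NodeUnits.cc_eq_of_sub_mem hr hmem
    refine Prod.ext (funext fun d => ?_) (funext fun d => ?_)
    · have := hc (d () : ℤ)
      simp only [Groth.L01.NodeUnits.cc_natCast] at this
      rwa [show d = Finsupp.single () (d ()) from Finsupp.unique_ext (by simp)]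
    · have := hc (-((d () + 1 : ℕ) : ℤ))
      rw [Groth.L01.NodeUnits.cc_neg _ _ _ (by simp), Groth.L01.NodeUnits.cc_neg _ _ _ rfl, mul_zero,
        mul_eq_zero, if_neg (Nat.succ_ne_zero _)] at this
      rw [show d = Finsupp.single () (d ()) from Finsupp.unique_ext (by simp)]
      exact (by simpa using this.resolve_left (pow_ne_zero _ hr0) : (p.2 (Finsupp.single () (d ())) : R) = 0)
  exact Module.Flat.of_linearEquiv (LinearEquiv.ofBijective T ⟨hinj, hsurj⟩).symm

end Flat

variable {R : Type u} [CommRing R] [IsRegularLocalRing R] [IsAdicComplete (maximalIdeal R) R] {r : R}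

theorem map_maximalIdeal_le_qd (hr : r ∈ maximalIdeal R) (i : Fin 2) :
    (maximalIdeal R).map (algebraMap R (ArLef.NodeAlg R r)) ≤ qd r hr i := by
  refine Ideal.map_le_iff_le_comap.2 fun c hc => ?_
  show φ r hr i (cst r c) = 0
  rw [φ_cst, Ideal.Quotient.eq_zero_iff_mem.2 hc, map_zero]

theorem ufm_nodeAlg (hr : r ∈ maximalIdeal R) (hp : Prime r) :
    IsDomain (ArLef.NodeAlg R r) ∧ UniqueFactorizationMonoid (ArLef.NodeAlg R r) := by
  haveI : IsDomain R := Groth.L01.isDomain_of_regular R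
  haveI : IsDomain (R ⧸ Ideal.span ({r} : Set R)) :=
    (Ideal.Quotient.isDomain_iff_prime _).2 ((Ideal.span_singleton_prime hp.ne_zero).2 hp)
  haveI hdom := Groth.L14.Node.isDomain r hp.ne_zero
  refine ⟨hdom, ?_⟩
  haveI := flat_nodeAlg hr hp.ne_zero
  haveI : Nontrivial (R ⧸ maximalIdeal R) := Ideal.Quotient.nontrivial_iff.2 (maximalIdeal.isMaximal R).ne_top
  haveI : ∀ i, UniqueFactorizationMonoid (Localization.AtPrime (qd r hr i)) := fun i => by
    haveI : IsRegularLocalRing (Localization.AtPrime (qd r hr i)) := by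
      refine Fac.isRegular_localization (qd r hr i) (x r i) (x r (1 - i)) (fun h => ?_) ?_ ?_
        (map_maximalIdeal_le_qd hr i)
      · have h' : φ r hr i (x r (1 - i)) = 0 := h
        rw [φ_x_other] at h'
        exact PowerSeries.X_ne_zero h'
      · rw [Groth.L14.Node.x_mul_x r i]
        exact Ideal.mem_map_of_mem _ hr
      · exact fun y hy => ker_φ_le r hr i y hy

    exact Groth.L10.RegUFD.isUFD (Localization.AtPrime (qd r hr i))
  refine Fac.ufm (qd r hr) fun f hu hf P hP => ?_
  obtain ⟨g, e, h0, h1⟩ := exists_eq_span hp hu (hf 0) (hf 1) hP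
  exact ⟨g, e, fun i => by fin_cases i; exacts [h0, h1]⟩

theorem prime_of_ufm (hr : r ∈ maximalIdeal R) [IsDomain (ArLef.NodeAlg R r)]
    [UniqueFactorizationMonoid (ArLef.NodeAlg R r)] : Prime r := by
  haveI := nontrivial_quotient (r := r) (hr := hr)
  haveI : Nontrivial (R ⧸ maximalIdeal R) := Ideal.Quotient.nontrivial_iff.2 (maximalIdeal.isMaximal R).ne_top
  have hr0 : r ≠ 0 := fun h => by
    have e := Groth.L14.Node.x_mul_x r 0
    rw [show cst r r = 0 by rw [cst, h, map_zero], mul_eq_zero] at e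
    exact e.elim (Groth.L14.Node.x_ne_zero r 0) (Groth.L14.Node.x_ne_zero r _)
  have hirr : Irreducible (x r 0) := by
    refine ⟨Groth.L14.Node.x_not_isUnit r 0, fun g h e => ?_⟩
    by_contra hc
    push Not at hc
    have h0 : ∀ y, ¬ IsUnit y → PowerSeries.constantCoeff (φ r hr 1 y) = 0 := fun y hy => by
      by_contra hne
      refine hy (isUnit_of_constant (hr := hr) y ?_)
      rwa [constantCoeff_φ, PowerSeries.coeff_zero_eq_constantCoeff_apply]
    have h1 := congrArg (PowerSeries.coeff 1) (congrArg (φ r hr 1) e)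
    rw [show φ r hr 1 (x r 0) = PowerSeries.X from φ_x_other' r hr 0, map_mul, PowerSeries.coeff_one_mul,
      h0 g hc.1, h0 h hc.2, PowerSeries.coeff_one_X] at h1
    simp at h1
  have hp0 := UniqueFactorizationMonoid.irreducible_iff_prime.1 hirr
  refine ⟨hr0, (mem_maximalIdeal _).1 hr, fun a b hab => ?_⟩
  have hd : ∀ c, r ∣ c ↔ x r 0 ∣ cst r c := fun c => by
    rw [← Groth.L14.Node.br_eq_zero_iff, Groth.L14.Node.br_cst, map_eq_zero_iff _ PowerSeries.C_injective,
      Ideal.Quotient.eq_zero_iff_mem, Ideal.mem_span_singleton]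
  rw [hd, cst, map_mul] at hab
  exact (hp0.dvd_or_dvd hab).imp (hd a).2 (hd b).2

/-- `R⟦u, v⟧/(uv - r)` is a factorial domain exactly when `r` is prime. -/
theorem main (hr : r ∈ maximalIdeal R) :
    (IsDomain (ArLef.NodeAlg R r) ∧ UniqueFactorizationMonoid (ArLef.NodeAlg R r)) ↔ Prime r := by
  refine ⟨fun h => ?_, ufm_nodeAlg hr⟩
  haveI := h.1
  haveI := h.2
  exact prime_of_ufm hr

end Groth.L04.NodeUFD
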