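import Groth.Agent.L04.NodeUFD.Expand
import Groth.Agent.L10.RegularUFD
import Mathlib.FieldTheory.Minpoly.IsIntegrallyClosed
import Mathlib.RingTheory.UniqueFactorizationDomain.Basic
import Mathlib.RingTheory.Ideal.MinimalPrime.Localization

/-!
Minimal primes over elements which are nonzero on both branches of the closed fibre are principal.
-/

set_option autoImplicit false
set_option linter.style.haveILetI false
set_option linter.unusedSectionVars false
set_option maxHeartbeats 800000
set_option synthInstance.maxHeartbeats 80000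
universe u

open IsLocalRing Polynomial

noncomputable section

namespace Groth.L04.NodeUFD

open Groth.L14.Node (x cst)

variable {R : Type u} [CommRing R] {r : R}

section Rev

variable {D : Type u} [CommRing D] [IsDomain D] [Algebra R D] [IsDomain R] [IsIntegrallyClosed R]
  [Module.IsTorsionFree R D]

/-- `T^n m(r/T)`. -/
def revPoly (r : R) (m : R[X]) : R[X] :=
  ∑ i ∈ Finset.range (m.natDegree + 1), monomial (m.natDegree - i) (m.coeff i * r ^ i)

theorem coeff_revPoly (m : R[X]) {i : ℕ} (hi : i ≤ m.natDegree) :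
    (revPoly r m).coeff (m.natDegree - i) = m.coeff i * r ^ i := by
  rw [revPoly, finsetSum_coeff, Finset.sum_eq_single i]
  · rw [coeff_monomial, if_pos rfl]
  · intro j hj hne
    rw [Finset.mem_range] at hj
    rw [coeff_monomial, if_neg (by omega)]
  · intro h
    exact absurd (Finset.mem_range.2 (by omega)) h

theorem natDegree_revPoly_le (m : R[X]) : (revPoly r m).natDegree ≤ m.natDegree :=
  natDegree_sum_le_of_forall_le _ _ fun _ _ => (natDegree_monomial_le _).trans (Nat.sub_le _ _)

theorem aeval_revPoly (m : R[X]) {U V : D} (hUV : U * V = algebraMap R D r) (hm : aeval U m = 0) :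
    aeval V (revPoly r m) = 0 := by
  have h : aeval V (revPoly r m) = V ^ m.natDegree * aeval U m := by
    rw [revPoly, map_sum, aeval_eq_sum_range, Finset.mul_sum]
    refine Finset.sum_congr rfl fun i hi => ?_
    rw [Finset.mem_range] at hi
    rw [aeval_monomial, map_mul, map_pow, ← hUV, mul_pow, Algebra.smul_def,
      show m.natDegree = (m.natDegree - i) + i by omega, pow_add, Nat.add_sub_cancel]
    ring
  rw [h, hm, mul_zero]

theorem revPoly_ne_zero {m : R[X]} (hm : m.Monic) (hr : r ≠ 0) : revPoly r m ≠ 0 := fun h => by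
  have := coeff_revPoly (r := r) m le_rfl
  rw [h, coeff_zero, hm.coeff_natDegree, one_mul] at this
  exact pow_ne_zero _ hr this.symm

theorem natDegree_minpoly_le {U V : D} (hU : IsIntegral R U) (hV : IsIntegral R V)
    (hUV : U * V = algebraMap R D r) (hr : r ≠ 0) :
    (minpoly R V).natDegree ≤ (minpoly R U).natDegree :=
  (natDegree_le_natDegree (minpoly.IsIntegrallyClosed.degree_le_of_ne_zero
    (revPoly_ne_zero (minpoly.monic hU) hr) (aeval_revPoly _ hUV (minpoly.aeval R U)))).trans
    (natDegree_revPoly_le _)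

/-- The Newton polygon of the minimal polynomial of `U` when `U V = r`. -/
theorem exists_slopes {U V : D} (hU : IsIntegral R U) (hV : IsIntegral R V)
    (hUV : U * V = algebraMap R D r) (hr : Prime r) :
    ∃ (b : ℕ) (c : ℕ → R), b ≤ (minpoly R U).natDegree ∧ IsUnit (c 0) ∧
      ∀ i ≤ b, (minpoly R U).coeff i = r ^ (b - i) * c i := by
  let m := minpoly R U
  let n := m.natDegree
  have hm : m.Monic := minpoly.monic hU
  have hn : (minpoly R V).natDegree = n :=
    le_antisymm (natDegree_minpoly_le hU hV hUV hr.ne_zero)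
      (natDegree_minpoly_le hV hU (by rw [mul_comm, hUV]) hr.ne_zero)
  have hq : revPoly r m = C (m.coeff 0) * minpoly R V := by
    have h := eq_leadingCoeff_mul_of_monic_of_dvd_of_natDegree_le (minpoly.monic hV)
      (minpoly.isIntegrallyClosed_dvd hV (aeval_revPoly (r := r) m hUV (minpoly.aeval R U)))
      (by rw [hn]; exact natDegree_revPoly_le _)
    have h0 : (revPoly r m).coeff n = m.coeff 0 := by simpa using coeff_revPoly (r := r) m (Nat.zero_le _)
    have h1 := congrArg (fun p : R[X] => p.coeff n) h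
    simp only [coeff_C_mul, h0, ← hn, (minpoly.monic hV).coeff_natDegree, mul_one] at h1
    rw [hn, h0] at h1
    rw [h1]
    exact h
  have hrel : ∀ i ≤ n, m.coeff i * r ^ i = m.coeff 0 * (minpoly R V).coeff (n - i) := fun i hi => by
    rw [← coeff_C_mul, ← hq]
    exact (coeff_revPoly m hi).symm
  obtain ⟨b, hb, hassoc⟩ := (dvd_prime_pow hr n).1 ⟨(minpoly R V).coeff 0, by
    rw [← Nat.sub_self n, ← hrel n le_rfl, hm.coeff_natDegree, one_mul]⟩
  obtain ⟨ε, hε⟩ := hassoc.symm
  refine ⟨b, fun i => (ε : R) * (minpoly R V).coeff (n - i), hb, ?_, fun i hi => ?_⟩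
  · show IsUnit ((ε : R) * (minpoly R V).coeff (n - 0))
    rw [Nat.sub_zero, ← hn, (minpoly.monic hV).coeff_natDegree, mul_one]
    exact ε.isUnit
  · refine mul_right_cancel₀ (pow_ne_zero i hr.ne_zero) ?_
    show m.coeff i * r ^ i = _
    rw [hrel i (hi.trans hb), ← hε, mul_assoc, mul_assoc, mul_assoc, mul_comm _ (r ^ i),
      mul_left_comm _ (r ^ i), ← mul_assoc (r ^ (b - i)), ← pow_add, Nat.sub_add_cancel hi]

end Rev

namespace Abs

variable {A : Type u} [CommRing A] [Algebra R A]

theorem eq_zero_of_algebraMap_mem [IsDomain R] {ι : Type} {f : A} (e : (ι → R) ≃ₗ[R] A ⧸ Ideal.span {f})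
    {P : Ideal A} (hP : P ∈ (Ideal.span {f}).minimalPrimes) {c : R} (hc : algebraMap R A c ∈ P) : c = 0 := by
  by_contra hc0
  rw [Ideal.minimalPrimes_eq_comap] at hP
  obtain ⟨Q, hQ, rfl⟩ := hP
  refine Set.disjoint_left.1 (Ideal.disjoint_nonZeroDivisors_of_mem_minimalPrimes hQ)
    hc (mem_nonZeroDivisors_iff_right.2 fun z hz => ?_)
  obtain ⟨v, rfl⟩ := e.surjective z
  have hz' : c • e v = 0 := by
    rw [Algebra.smul_def, mul_comm]
    exact hz
  rw [← map_smul, LinearEquiv.map_eq_zero_iff, smul_eq_zero] at hz'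
  rw [hz'.resolve_left hc0, map_zero]

theorem finite_quotient {ι : Type} [Finite ι] {f : A} (e : (ι → R) ≃ₗ[R] A ⧸ Ideal.span {f})
    {P : Ideal A} (hP : Ideal.span {f} ≤ P) : Module.Finite R (A ⧸ P) :=
  haveI : Module.Finite R (A ⧸ Ideal.span {f}) := Module.Finite.equiv e
  Module.Finite.of_surjective (Ideal.Quotient.factorₐ R hP).toLinearMap (Ideal.Quotient.factor_surjective hP)

/-- The element of the prime read off from the minimal polynomial. -/
theorem exists_mem [IsDomain R] [IsIntegrallyClosed R] (hp : Prime r) {u v : A} (huv : u * v = algebraMap R A r)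
    (P : Ideal A) [P.IsPrime] [Module.Finite R (A ⧸ P)] (hzero : ∀ c : R, algebraMap R A c ∈ P → c = 0) :
    ∃ (b : ℕ) (c : ℕ → R) (m : R[X]), b ≤ m.natDegree ∧ (IsUnit (c 0) ∧ (b = 0 → m.coeff 0 = c 0)) ∧
      m.coeff m.natDegree = 1 ∧
      (∑ i ∈ Finset.range b, algebraMap R A (c i) * v ^ (b - i) +
        ∑ i ∈ Finset.range (m.natDegree - b + 1), algebraMap R A (m.coeff (b + i)) * u ^ i) ∈ P ∧
      LinearIndependent R (fun i : Fin m.natDegree => Ideal.Quotient.mk P u ^ (i : ℕ)) := by
  classical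
  haveI : IsDomain (A ⧸ P) := Ideal.Quotient.isDomain P
  have hinj : Function.Injective (algebraMap R (A ⧸ P)) := (injective_iff_map_eq_zero _).2 fun c hc =>
    hzero c (Ideal.Quotient.eq_zero_iff_mem.1 hc)
  haveI : FaithfulSMul R (A ⧸ P) := (faithfulSMul_iff_algebraMap_injective R _).2 hinj
  let U := Ideal.Quotient.mk P u
  let V := Ideal.Quotient.mk P v
  have hUV : U * V = algebraMap R (A ⧸ P) r := by
    rw [← map_mul, huv]
    rfl
  have hU : IsIntegral R U := IsIntegral.of_finite R U
  obtain ⟨b, c, hb, hc0, hc⟩ := exists_slopes hU (IsIntegral.of_finite R V) hUV hp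
  let m := minpoly R U
  refine ⟨b, c, m, hb, ⟨hc0, fun h => ?_⟩, (minpoly.monic hU).coeff_natDegree, ?_, ?_⟩
  · subst h
    simpa using hc 0 le_rfl
  · have e : m.natDegree + 1 = b + (m.natDegree - b + 1) := by
      have : b ≤ m.natDegree := hb
      omega
    refine ((Ideal.IsPrime.mem_or_mem inferInstance (x := u ^ b) ?_).resolve_left fun h => ?_)
    · rw [show u ^ b * (_ + _) = aeval u m by
        rw [aeval_eq_sum_range]
        conv_rhs => rw [e, Finset.sum_range_add]
        rw [mul_add, Finset.mul_sum, Finset.mul_sum]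
        refine congrArg₂ _ (Finset.sum_congr rfl fun i hi => ?_) (Finset.sum_congr rfl fun i _ => ?_)
        · rw [Finset.mem_range] at hi
          have e2 : u ^ b * v ^ (b - i) = algebraMap R A r ^ (b - i) * u ^ i := by
            rw [← huv, mul_pow]
            conv_lhs => rw [show b = (b - i) + i by omega, pow_add, Nat.add_sub_cancel]
            ring
          rw [Algebra.smul_def, show m.coeff i = r ^ (b - i) * c i from hc i hi.le, map_mul, map_pow,
            mul_left_comm, e2]
          ring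
        · rw [Algebra.smul_def, pow_add]
          ring]
      rw [← Ideal.Quotient.eq_zero_iff_mem, ← Ideal.Quotient.mkₐ_eq_mk R, ← aeval_algHom_apply]
      exact minpoly.aeval R U
    · have hU0 : U = 0 := Ideal.Quotient.eq_zero_iff_mem.2 (Ideal.IsPrime.mem_of_pow_mem inferInstance b h)
      rw [hU0, zero_mul] at hUV
      exact hp.ne_zero (hinj (hUV.symm.trans (map_zero _).symm))
  · rw [Fintype.linearIndependent_iff]
    intro d hd i
    let p : R[X] := ∑ i : Fin m.natDegree, monomial (i : ℕ) (d i)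
    have hp0 : p = 0 := by
      by_contra hne
      have h1 := minpoly.IsIntegrallyClosed.degree_le_of_ne_zero (s := U) hne (by
        simp only [p, map_sum, aeval_monomial, ← Algebra.smul_def]
        exact hd)
      have h2 : p.degree < (m.natDegree : WithBot ℕ) := (degree_sum_le _ _).trans_lt ((Finset.sup_lt_iff
        (WithBot.bot_lt_coe _)).2 fun i _ => (degree_monomial_le _ _).trans_lt (WithBot.coe_lt_coe.2 i.isLt))
      rw [degree_eq_natDegree (minpoly.ne_zero hU)] at h1
      exact absurd (h1.trans_lt h2) (lt_irrefl _)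
    have := congrArg (fun q : R[X] => q.coeff (i : ℕ)) hp0
    simpa [p, coeff_monomial, Fin.val_inj] using this

theorem eq_span_of_rank [IsDomain R] {ι : Type} [Fintype ι] {g : A} (e : (ι → R) ≃ₗ[R] A ⧸ Ideal.span {g})
    {P : Ideal A} (hg : g ∈ P) {n : ℕ} (w' : Fin n → A ⧸ P) (hw' : LinearIndependent R w')
    (hn : Fintype.card ι ≤ n) : P = Ideal.span {g} := by
  classical
  have hle : Ideal.span {g} ≤ P := (Ideal.span_singleton_le_iff_mem _).2 hg
  refine le_antisymm (fun y hy => ?_) hle
  let π : (ι → R) →ₗ[R] A ⧸ P := (Ideal.Quotient.factorₐ R hle).toLinearMap ∘ₗ e.toLinearMap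
  have hπs : Function.Surjective π := (Ideal.Quotient.factor_surjective hle).comp e.surjective
  choose w hw using fun i : Fin n => hπs (w' i)
  rw [← Ideal.Quotient.eq_zero_iff_mem]
  obtain ⟨z, hz⟩ := e.surjective (Ideal.Quotient.mk _ y)
  rw [← hz]
  have hzπ : π z = 0 := by
    show Ideal.Quotient.factor hle (e z) = 0
    rw [hz, Ideal.Quotient.factor_mk]
    exact Ideal.Quotient.eq_zero_iff_mem.2 hy
  suffices z = 0 by rw [this, map_zero]
  by_contra hz0
  have hli : LinearIndependent R (fun o : Option (Fin n) => o.elim z w) := by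
    rw [Fintype.linearIndependent_iff]
    intro d hd
    rw [Fintype.sum_option] at hd
    have h1 : ∀ i, d (some i) = 0 := Fintype.linearIndependent_iff.1 hw' _ (by
      have := congrArg π hd
      simpa [hzπ, hw] using this)
    have h2 : d none = 0 := by simpa [h1, hz0] using hd
    rintro (_ | i)
    exacts [h2, h1 i]
  have := hli.fintype_card_le_finrank
  simp [Module.finrank_pi] at this
  omega

end Abs

variable [IsRegularLocalRing R] [IsAdicComplete (maximalIdeal R) R] {hr : r ∈ maximalIdeal R}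

local notation "A" => ArLef.NodeAlg R r

theorem isUnit_of_constant (y : A) (h : PowerSeries.coeff 0 (φ r hr 0 y) ≠ 0) : IsUnit y := by
  obtain ⟨F, rfl⟩ := Ideal.Quotient.mk_surjective y
  rw [coeff_φ_mk, Finsupp.single_zero, Ne, Ideal.Quotient.eq_zero_iff_mem] at h
  exact (MvPowerSeries.isUnit_iff_constantCoeff.2 (notMem_maximalIdeal.1 h)).map _

theorem exists_hasOrders {f : A} (hu : ¬ IsUnit f) (h0 : f ∉ qd r hr 0) (h1 : f ∉ qd r hr 1) :
    ∃ a b, HasOrders r hr f a b ∧ (∀ n, PowerSeries.coeff n (φ r hr 0 f) ≠ 0 → a ≤ n) ∧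
      ∀ n, PowerSeries.coeff n (φ r hr 1 f) ≠ 0 → b ≤ n := by
  classical
  have h : ∀ i, f ∉ qd r hr i → ∃ n, PowerSeries.coeff n (φ r hr i f) ≠ 0 := fun i hi => by
    by_contra hc
    push Not at hc
    exact hi (PowerSeries.ext fun n => by rw [hc n, map_zero])
  refine ⟨Nat.find (h 0 h0), Nat.find (h 1 h1), ⟨?_, fun n hn => not_not.1 (Nat.find_min (h 0 h0) hn),
    Nat.find_spec (h 0 h0), fun n hn => not_not.1 (Nat.find_min (h 1 h1) hn), Nat.find_spec (h 1 h1)⟩,
    fun n hn => Nat.find_min' _ hn, fun n hn => Nat.find_min' _ hn⟩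
  refine Nat.pos_of_ne_zero fun hz => hu (isUnit_of_constant f (hr := hr) ?_)
  have := Nat.find_spec (h 0 h0)
  rwa [hz] at this

/-- The equivalence `R^(a+b) ≃ A/(f)`. -/
def basisEquiv [IsDomain R] {f : A} {a b : ℕ} (h : HasOrders r hr f a b) :
    (Fin a ⊕ Fin b → R) ≃ₗ[R] A ⧸ Ideal.span {f} :=
  LinearEquiv.ofBijective (basisMap r f a b) ⟨basisMap_injective h, basisMap_surjective h⟩

theorem eq_zero_of_algebraMap_mem [IsDomain R] {f : A} {a b : ℕ} (h : HasOrders r hr f a b) {P : Ideal A}
    (hP : P ∈ (Ideal.span {f}).minimalPrimes) {c : R} (hc : algebraMap R A c ∈ P) : c = 0 := by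
  have e := basisEquiv h
  exact Abs.eq_zero_of_algebraMap_mem (f := f) e hP hc

theorem finite_quotient [IsDomain R] {f : A} {a b : ℕ} (h : HasOrders r hr f a b) {P : Ideal A}
    (hP : Ideal.span {f} ≤ P) : Module.Finite R (A ⧸ P) := by
  have e := basisEquiv h
  exact Abs.finite_quotient (f := f) e hP

/-- Minimal primes over elements of nonzero restriction to both branches are principal. -/
theorem exists_eq_span (hp : Prime r) {f : A} (hu : ¬ IsUnit f) (h0 : f ∉ qd r hr 0) (h1 : f ∉ qd r hr 1)
    {P : Ideal A} (hP : P ∈ (Ideal.span {f}).minimalPrimes) :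
    ∃ g : A, P = Ideal.span {g} ∧ g ∉ qd r hr 0 ∧ g ∉ qd r hr 1 := by
  classical
  haveI : IsDomain R := Groth.L01.isDomain_of_regular R
  haveI := Groth.L10.RegUFD.isUFD R
  haveI : P.IsPrime := hP.1.1
  obtain ⟨a, b', hf, -, -⟩ := exists_hasOrders hu h0 h1
  haveI := finite_quotient hf hP.1.2
  have hzero : ∀ c : R, algebraMap R A c ∈ P → c = 0 := fun c hc => eq_zero_of_algebraMap_mem hf hP hc
  obtain ⟨b, c, m, hb, hc0, hmn, hg, hindep⟩ := Abs.exists_mem hp (Groth.L14.Node.x_mul_x r 0) P hzero
  generalize hn : m.natDegree = n at hb hg hindep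
  let g : A := ∑ i ∈ Finset.range b, cst r (c i) * x r 1 ^ (b - i) +
    ∑ i ∈ Finset.range (n - b + 1), cst r (m.coeff (b + i)) * x r 0 ^ i
  have hgP : g ∈ P := hg
  have hres : Ideal.Quotient.mk (maximalIdeal R) (c 0) ≠ 0 := fun h =>
    (maximalIdeal.isMaximal R).ne_top (Ideal.eq_top_of_isUnit_mem _ (Ideal.Quotient.eq_zero_iff_mem.1 h) hc0.1)
  have hg0 : PowerSeries.coeff b (φ r hr 0 g) ≠ 0 := by
    have e : PowerSeries.coeff b (φ r hr 0 g) = Ideal.Quotient.mk _ (c 0) := by
      simp only [g, map_add, map_sum, map_mul, map_pow, φ_cst, φ_x_self, show φ r hr 0 (x r 1) = PowerSeries.X from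
        φ_x_other r hr 0, PowerSeries.coeff_C_mul_X_pow]
      rw [Finset.sum_eq_single_of_mem (s := Finset.range (n - b + 1)) 0 (by simp) (fun i _ hi => by
        rw [zero_pow hi, mul_zero, map_zero])]
      simp only [pow_zero, mul_one, PowerSeries.coeff_C, add_zero]
      rcases Nat.eq_zero_or_pos b with hb0 | hb0
      · subst hb0
        rw [Finset.range_zero, Finset.sum_empty, zero_add, if_pos rfl]
        exact congrArg _ (hc0.2 rfl)
      · rw [Finset.sum_eq_single_of_mem 0 (Finset.mem_range.2 hb0) (fun i hi hi0 => by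
          rw [Finset.mem_range] at hi
          rw [if_neg (by omega)]), if_pos (by omega), if_neg (by omega), add_zero]
    rwa [e]
  have hg1 : PowerSeries.coeff (n - b) (φ r hr 1 g) ≠ 0 := by
    have e : PowerSeries.coeff (n - b) (φ r hr 1 g) = 1 := by
      simp only [g, map_add, map_sum, map_mul, map_pow, φ_cst, φ_x_self, show φ r hr 1 (x r 0) = PowerSeries.X from
        φ_x_other' r hr 0, PowerSeries.coeff_C_mul_X_pow]
      rw [Finset.sum_eq_zero fun i hi => by
          rw [Finset.mem_range] at hi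
          rw [zero_pow (by omega), mul_zero, map_zero],
        Finset.sum_eq_single_of_mem (n - b) (by simp) (fun i _ hi => if_neg (Ne.symm hi)), if_pos rfl, zero_add,
        show b + (n - b) = n by omega]
      rw [show m.coeff n = 1 from hn ▸ hmn, map_one]
    haveI : Nontrivial (R ⧸ maximalIdeal R) := Ideal.Quotient.nontrivial_iff.2 (maximalIdeal.isMaximal R).ne_top
    rw [e]
    exact one_ne_zero
  have hgq0 : g ∉ qd r hr 0 := fun h => hg0 (by rw [show φ r hr 0 g = 0 from h, map_zero])
  have hgq1 : g ∉ qd r hr 1 := fun h => hg1 (by rw [show φ r hr 1 g = 0 from h, map_zero])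
  obtain ⟨α, β, hg', hα, hβ⟩ := exists_hasOrders (hr := hr)
    (fun h => Ideal.IsPrime.ne_top inferInstance (Ideal.eq_top_of_isUnit_mem _ hgP h)) hgq0 hgq1
  have hαβ : Fintype.card (Fin α ⊕ Fin β) ≤ n := by
    have := hα b hg0
    have := hβ (n - b) hg1
    simp only [Fintype.card_sum, Fintype.card_fin]
    omega
  have e' := basisEquiv hg'
  exact ⟨g, Abs.eq_span_of_rank (g := g) e' hgP _ hindep hαβ, hgq0, hgq1⟩

end Groth.L04.NodeUFD
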